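import Groth.Agent.Lib.Helper2.Kos.AlgApprox
import Groth.Agent.Lib.Helper2.Aff.AffModel

/-!
# Approximation by perfect complexes on affine schemes (helper2)

Stacks 36.14.2 transported to `D(O_X)` for affine `X`.
-/

set_option autoImplicit false
set_option linter.style.haveILetI false
universe u
open CategoryTheory CategoryTheory.Limits CategoryTheory.Pretriangulated DerivedCategory
  AlgebraicGeometry

attribute [local instance] HasDerivedCategory.standard

namespace Groth.Agent.Lib.Helper2.Kos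

open Groth.Agent.Lib.Helper18.DR Groth.Agent.Lib.Helper2.TExactIso Groth.Agent.Lib.Helper2.Aff
  Groth.Agent.Lib.Helper13 Groth.Agent.Lib.Helper13.GoodMap
  Groth.Agent.Lib.Helper2.Aff.AffModel

section Model

variable {X : Scheme.{u}} {A : Type u} [CommRing A] (e : X ⟶ Spec (CommRingCat.of A)) [IsIso e]
  [PreservesFiniteLimits (tilde.functor (CommRingCat.of A))]

/-- the model functor preserves good maps -/
theorem good_Tm {m : ℤ} {K L : Dual.D A} {f : K ⟶ L} (hf : Good m f) :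
    Good m ((Tm e).map f) := by
  haveI : (tilde.functor (CommRingCat.of A)).Additive := inferInstance
  haveI : PreservesFiniteColimits (tilde.functor (CommRingCat.of A)) :=
    PerfAff.preservesFiniteColimits_tilde _
  have h1 : Good m ((DCoh.tildeD (CommRingCat.of A)).map f) :=
    good_map (tilde.functor (CommRingCat.of A)) hf
  exact good_map (Scheme.Modules.restrictFunctor e) h1

/-- approximation on a scheme isomorphic to `Spec A` -/
theorem approx_Tm (fs : List A) (m : ℤ) (E : DCoh.D X) (hq : DCoh.IsQCohD E)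
    (hpc : DCoh.IsPseudoCoherentD m E)
    (hsupp : ∀ i : ℤ, m - (fs.length : ℤ) + 1 ≤ i →
      CohB1.support (DCoh.HD E i) ⊆ e.base ⁻¹' zl {a | a ∈ fs}) :
    ∃ (P : DCoh.D X) (α : P ⟶ E), DCoh.IsPerfect P ∧
      (∀ i : ℤ, CohB1.support (DCoh.HD P i) ⊆ e.base ⁻¹' zl {a | a ∈ fs}) ∧
      Good m α := by
  obtain ⟨-, -, hess⟩ := Tm_full_faithful_essImage e
  obtain ⟨M, ⟨ε⟩⟩ := (hess E).1 hq
  have hM : DRing.IsPseudoCoherent A m M :=
    (isPC_Tm_iff e m M).1 (PCohSum.isPC_of_iso ε.symm hpc)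
  have htors : ∀ i : ℤ, m - (fs.length : ℤ) + 1 ≤ i → ∀ f ∈ fs, FTors f ((H A i).obj M) :=
    fun i hi f hf => ftors_of_support_Tm e M ε i {a | a ∈ fs} f hf (hsupp i hi)
  obtain ⟨P, α, hP, hPt, hα⟩ := approx fs m M hM htors
  refine ⟨(Tm e).obj P, (Tm e).map α ≫ ε.hom, (isPerfect_Tm_iff e P).2 hP, fun i => ?_, ?_⟩
  · exact support_Tm_of_ftors e P (Iso.refl _) i {a | a ∈ fs} (fun f hf => hPt i f hf)
  · exact (good_Tm e hα).comp_iso ε.hom

end Model

section Affine

attribute [local instance] Groth.Agent.Lib.Helper14.preservesFiniteLimits_tilde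

/-- **Approximation holds on affine schemes** (Stacks 36.14.2). -/
theorem approx_affine (X : Scheme.{u}) [IsAffine X] (fs : Finset Γ(X, ⊤))
    (m : ℤ) (E : DCoh.D X) (hq : DCoh.IsQCohD E) (hpc : DCoh.IsPseudoCoherentD m E)
    (hsupp : ∀ i : ℤ, m - (fs.card : ℤ) + 1 ≤ i →
      CohB1.support (DCoh.HD E i) ⊆ X.zeroLocus (U := ⊤) (↑fs : Set Γ(X, ⊤))) :
    ∃ (P : DCoh.D X) (α : P ⟶ E), DCoh.IsPerfect P ∧
      (∀ i : ℤ, CohB1.support (DCoh.HD P i) ⊆ X.zeroLocus (U := ⊤) (↑fs : Set Γ(X, ⊤))) ∧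
      (∀ i : ℤ, m < i → IsIso ((DerivedCategory.homologyFunctor X.Modules i).map α)) ∧
      Epi ((DerivedCategory.homologyFunctor X.Modules m).map α) := by
  let e : X ⟶ Spec (CommRingCat.of ↑Γ(X, ⊤)) := X.toSpecΓ
  haveI : IsIso e := inferInstanceAs (IsIso X.toSpecΓ)
  have hset : {a | a ∈ fs.toList} = (↑fs : Set Γ(X, ⊤)) := by
    ext a
    simp
  have hz : X.zeroLocus (U := ⊤) (↑fs : Set Γ(X, ⊤)) = e.base ⁻¹' zl {a | a ∈ fs.toList} := by
    rw [hset]
    exact (X.toSpecΓ_preimage_zeroLocus _).symm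
  obtain ⟨P, α, hP, hPs, hα⟩ := approx_Tm e fs.toList m E hq hpc (fun i hi => by
    rw [← hz]
    exact hsupp i (by rw [Finset.length_toList] at hi; exact hi))
  exact ⟨P, α, hP, fun i => by rw [hz]; exact hPs i, hα.1, hα.2⟩

end Affine

end Groth.Agent.Lib.Helper2.Kos
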