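import Mathlib

/-!
# The cone of the complementary idempotent of a retract (helper2)

In a triangulated category, if `F` is a retract of `Y` via `i : F ⟶ Y`, `p : Y ⟶ F`, then the
cone of `𝟙 Y - p ≫ i` is isomorphic to `F ⊞ F⟦1⟧` (Thomason's trick).
-/

set_option autoImplicit false
universe v u
open CategoryTheory CategoryTheory.Limits CategoryTheory.Pretriangulated

namespace Groth.Agent.Lib.Helper2.Kos

variable {C : Type u} [Category.{v} C] [Preadditive C] [HasZeroObject C] [HasShift C ℤ]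
  [∀ n : ℤ, (shiftFunctor C n).Additive] [Pretriangulated C] [IsTriangulated C]

/-- the split triangle of a biproduct decomposition -/
theorem split_triangle_distinguished {F F' Y : C} (i : F ⟶ Y) (p : Y ⟶ F) (i' : F' ⟶ Y)
    (c : Y ⟶ F') (hip : i ≫ p = 𝟙 F) (hi'c : i' ≫ c = 𝟙 F') (hi'p : i' ≫ p = 0)
    (hic : i ≫ c = 0) (hsum : p ≫ i + c ≫ i' = 𝟙 Y) :
    Triangle.mk i' p (0 : F ⟶ F'⟦(1 : ℤ)⟧) ∈ distTriang C := by
  refine isomorphic_distinguished _ (binaryBiproductTriangle_distinguished F' F) _ ?_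
  let φ : Y ≅ F' ⊞ F :=
    { hom := biprod.lift c p
      inv := biprod.desc i' i
      hom_inv_id := by
        rw [biprod.lift_desc, add_comm]
        exact hsum
      inv_hom_id := by
        apply biprod.hom_ext <;> apply biprod.hom_ext' <;> simp [hip, hi'c, hi'p, hic] }
  refine Triangle.isoMk _ _ (Iso.refl _) φ (Iso.refl _) ?_ ?_ ?_
  · show i' ≫ biprod.lift c p = 𝟙 F' ≫ biprod.inl
    rw [Category.id_comp]
    apply biprod.hom_ext
    · rw [Category.assoc, biprod.lift_fst, hi'c, biprod.inl_fst]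
    · rw [Category.assoc, biprod.lift_snd, hi'p, biprod.inl_snd]
  · show p ≫ 𝟙 F = biprod.lift c p ≫ biprod.snd
    rw [Category.comp_id, biprod.lift_snd]
  · show (0 : F ⟶ F'⟦(1 : ℤ)⟧) ≫ (𝟙 F')⟦(1 : ℤ)⟧' = 𝟙 F ≫ 0
    rw [zero_comp, comp_zero]

theorem nonempty_cone_iso_biprod {F Y G : C} (i : F ⟶ Y) (p : Y ⟶ F) (hip : i ≫ p = 𝟙 F)
    (a : Y ⟶ G) (b : G ⟶ Y⟦(1 : ℤ)⟧)
    (hT : Triangle.mk (𝟙 Y - p ≫ i) a b ∈ distTriang C) [HasBinaryBiproduct F (F⟦(1 : ℤ)⟧)] :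
    Nonempty (G ≅ F ⊞ F⟦(1 : ℤ)⟧) := by
  -- the complement `F'`
  obtain ⟨F', c, d, hT₁⟩ := distinguished_cocone_triangle i
  haveI : IsSplitMono i := ⟨⟨p, hip⟩⟩
  have hd : d = 0 := Triangle.mor₃_eq_zero_of_mono₁ _ hT₁ (inferInstance : Mono i)
  haveI : Epi c := Triangle.epi₂ _ hT₁ hd
  have hic : i ≫ c = 0 := comp_distTriang_mor_zero₁₂ _ hT₁
  have hiu : i ≫ (𝟙 Y - p ≫ i) = 0 := by
    rw [Preadditive.comp_sub, Category.comp_id, ← Category.assoc, hip, Category.id_comp, sub_self]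
  obtain ⟨i', hi'⟩ : ∃ i' : F' ⟶ Y, 𝟙 Y - p ≫ i = c ≫ i' :=
    Triangle.yoneda_exact₂ _ hT₁ (𝟙 Y - p ≫ i) hiu
  have hup : (𝟙 Y - p ≫ i) ≫ p = 0 := by
    rw [Preadditive.sub_comp, Category.id_comp, Category.assoc, hip, Category.comp_id, sub_self]
  have huc : (𝟙 Y - p ≫ i) ≫ c = c := by
    rw [Preadditive.sub_comp, Category.id_comp, Category.assoc, hic, comp_zero, sub_zero]
  have hi'c : i' ≫ c = 𝟙 F' := by
    rw [← cancel_epi c, ← Category.assoc, ← hi', huc, Category.comp_id]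
  have hi'p : i' ≫ p = 0 := by
    rw [← cancel_epi c, ← Category.assoc, ← hi', hup, comp_zero]
  have hsum : p ≫ i + c ≫ i' = 𝟙 Y := by
    rw [← hi']
    abel
  have h₂₃ := split_triangle_distinguished i p i' c hip hi'c hi'p hic hsum
  have h₁₂ : Triangle.mk c d (-i⟦(1 : ℤ)⟧') ∈ distTriang C := rot_of_distTriang _ hT₁
  have oct := Triangulated.someOctahedron hi'.symm h₁₂ h₂₃ hT
  have hmem := oct.mem
  obtain ⟨φ, -, -⟩ := exists_iso_binaryBiproduct_of_distTriang _ hmem (by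
    show (0 : F ⟶ F'⟦(1 : ℤ)⟧) ≫ d⟦(1 : ℤ)⟧' = 0
    rw [zero_comp])
  exact ⟨φ ≪≫ biprod.braiding _ _⟩

end Groth.Agent.Lib.Helper2.Kos
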