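import Groth.Agent.Lib.Helper2.Kos.Summand
import Groth.Agent.Lib.Helper2.Kos.IdemCone

/-!
# Thomason's trick: `F ⊕ F[1]` extends from a quasi-compact open of an affine scheme (helper2)

Stacks 36.13.4 / 36.14.3.
-/

set_option autoImplicit false
set_option linter.style.haveILetI false
universe u
open CategoryTheory CategoryTheory.Limits CategoryTheory.Pretriangulated DerivedCategory
  AlgebraicGeometry

attribute [local instance] HasDerivedCategory.standard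

namespace Groth.Agent.Lib.Helper2.Kos

open Groth.Agent.Lib.Helper18.DR Groth.Agent.Lib.Helper2.TExactIso Groth.Agent.Lib.Helper2.Aff
  Groth.Agent.Lib.Helper2.Stk Groth.Agent.Lib.Helper13 Groth.Agent.Lib.Helper2.Aff.AffModel
  AlgebraicGeometry.Scheme.Modules

attribute [local instance] Groth.Agent.Lib.Helper2.Stk.hasRpush

section Model

variable {X : Scheme.{u}} {A : Type u} [CommRing A] (e : X ⟶ Spec (CommRingCat.of A)) [IsIso e]
  [PreservesFiniteLimits (tilde.functor (CommRingCat.of A))]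

theorem extend_sum_shift (U : X.Opens) (hU : IsCompact (U : Set X)) [QuasiSeparatedSpace X]
    (gs : List A) (hUc : ((U : Set X))ᶜ = e.base ⁻¹' zl {a | a ∈ gs})
    (fs : List A) (F : DCoh.D (U : Scheme.{u})) (hF : DCoh.IsPerfect F)
    (hFs : ∀ i : ℤ, CohB1.support (DCoh.HD F i) ⊆
      {v : ↥(U : Scheme.{u}) | U.ι.base v ∈ e.base ⁻¹' zl {a | a ∈ fs}})
    [HasBinaryBiproduct F (F⟦(1 : ℤ)⟧)] :
    ∃ G : DCoh.D X, DCoh.IsPerfect G ∧
      (∀ k : ℤ, CohB1.support (DCoh.HD G k) ⊆ e.base ⁻¹' zl {a | a ∈ fs}) ∧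
      Nonempty ((DCoh.restrictD U.ι).obj G ≅ F ⊞ F⟦(1 : ℤ)⟧) := by
  obtain ⟨P, i, p, hP, hPs, hip⟩ := summand e U hU fs F hF hFs
  obtain ⟨P₁, β, γ, hP₁, hβ, hβγ, hsupp⟩ := lift_map_supp e U gs hUc hU P P hP
    (HomVan.isQCohD_of_isPerfect P hP) (𝟙 _ - p ≫ i)
  obtain ⟨G, a, b, hT⟩ := distinguished_cocone_triangle γ
  have hT₀ : IsClosed (e.base ⁻¹' zl {a | a ∈ fs}) :=
    (PrimeSpectrum.isClosed_zeroLocus _).preimage e.base.hom.continuous
  let V : X.Opens := ⟨(e.base ⁻¹' zl {a | a ∈ fs})ᶜ, hT₀.isOpen_compl⟩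
  have hPV : IsZero ((DCoh.restrictD V.ι).obj P) :=
    ApproxOpen.isZero_restrictD_of_support V P (fun k x hx hxV => hxV (hPs k hx))
  have hP₁V := hsupp V hPV
  have hGV : IsZero ((DCoh.restrictD V.ι).obj G) :=
    Triangle.isZero₃_of_isZero₁₂ _ ((DCoh.restrictD V.ι).map_distinguished _ hT) hP₁V hPV
  refine ⟨G, (PerfTri.two_of_three _ hT).1 hP₁ hP, fun k => ?_, ?_⟩
  · obtain ⟨ee⟩ := OpenEquivSupp.nonempty_HD_restrictD_iso V.ι G k
    have hz' := ((DerivedCategory.homologyFunctor _ k).map_isZero hGV).of_iso ee.symm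
    have := (QCohLoc.isZero_restrict_iff V _).1 hz'
    intro x hx
    by_contra hxT
    exact this hx hxT
  · have hTU := (DCoh.restrictD U.ι).map_distinguished _ hT
    haveI := hβ
    let βU := asIso ((DCoh.restrictD U.ι).map β)
    have hT₂ : Triangle.mk (𝟙 ((DCoh.restrictD U.ι).obj P) - p ≫ i)
        ((DCoh.restrictD U.ι).map a)
        (((DCoh.restrictD U.ι).map b ≫
          ((DCoh.restrictD U.ι).commShiftIso (1 : ℤ)).hom.app P₁) ≫ βU.hom⟦(1 : ℤ)⟧') ∈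
        distTriang _ := by
      refine isomorphic_distinguished _ hTU _ ?_
      refine Triangle.isoMk _ _ βU.symm (Iso.refl _) (Iso.refl _) ?_ ?_ ?_
      · show (𝟙 _ - p ≫ i) ≫ 𝟙 _ = βU.inv ≫ (DCoh.restrictD U.ι).map γ
        rw [Category.comp_id, ← hβγ]
        show _ = βU.inv ≫ βU.hom ≫ _
        rw [Iso.inv_hom_id_assoc]
      · show (DCoh.restrictD U.ι).map a ≫ 𝟙 _ = 𝟙 _ ≫ (DCoh.restrictD U.ι).map a
        rw [Category.comp_id, Category.id_comp]
      · show (((DCoh.restrictD U.ι).map b ≫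
          ((DCoh.restrictD U.ι).commShiftIso (1 : ℤ)).hom.app P₁) ≫ βU.hom⟦(1 : ℤ)⟧') ≫
            βU.inv⟦(1 : ℤ)⟧' = 𝟙 _ ≫ ((DCoh.restrictD U.ι).map b ≫
          ((DCoh.restrictD U.ι).commShiftIso (1 : ℤ)).hom.app P₁)
        rw [Category.assoc, ← Functor.map_comp, Iso.hom_inv_id, CategoryTheory.Functor.map_id]
        exact (Category.comp_id _).trans (Category.id_comp _).symm
    exact nonempty_cone_iso_biprod i p hip _ _ hT₂

end Model

section Affine

attribute [local instance] Groth.Agent.Lib.Helper14.preservesFiniteLimits_tilde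

/-- **`F ⊕ F[1]` extends with supports** (Stacks 36.14.3) -/
theorem extend_affine (X : Scheme.{u}) [IsAffine X] (T : Set X) (hT : IsClosed T)
    (hTc : IsCompact Tᶜ) (U : X.Opens) (hU : IsCompact (U : Set X))
    (F : DCoh.D (U : Scheme.{u})) (hF : DCoh.IsPerfect F)
    (hFT : ∀ i : ℤ, CohB1.support (DCoh.HD F i) ⊆ {x : ↥(U : Scheme.{u}) | U.ι.base x ∈ T})
    [HasBinaryBiproduct F (F⟦(1 : ℤ)⟧)] :
    ∃ G : CochainComplex X.Modules ℤ, DCoh.IsPerfect (DCoh.toD X G) ∧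
      (∀ i : ℤ, CohB1.support (DCoh.HD (DCoh.toD X G) i) ⊆ T) ∧
      Nonempty (DerivedCategory.Q.obj ((DCoh.restrictCx U).obj G) ≅ F ⊞ F⟦(1 : ℤ)⟧) := by
  let e : X ⟶ Spec (CommRingCat.of ↑Γ(X, ⊤)) := X.toSpecΓ
  haveI : IsIso e := inferInstanceAs (IsIso X.toSpecΓ)
  haveI : QuasiSeparatedSpace X := inferInstance
  obtain ⟨gs, hgs⟩ := exists_list_compl_eq X U hU
  let W : X.Opens := ⟨Tᶜ, hT.isOpen_compl⟩
  obtain ⟨fs, hfs⟩ := exists_list_compl_eq X W hTc
  have hUc : ((U : Set X))ᶜ = e.base ⁻¹' zl {a | a ∈ gs} := by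
    rw [hgs]
    exact (X.toSpecΓ_preimage_zeroLocus _).symm
  have hTe : T = e.base ⁻¹' zl {a | a ∈ fs} := by
    have h1 : ((W : Set X))ᶜ = T := compl_compl T
    rw [← h1, hfs]
    exact (X.toSpecΓ_preimage_zeroLocus _).symm
  obtain ⟨G₀, hG₀, hG₀s, ⟨φ⟩⟩ := extend_sum_shift e U hU gs hUc fs F hF
    (fun i => by rw [← hTe]; exact hFT i)
  let G := DerivedCategory.Q.objPreimage G₀
  let ι : DerivedCategory.Q.obj G ≅ G₀ := DerivedCategory.Q.objObjPreimageIso G₀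
  refine ⟨G, PerfTri.isPerfect_of_iso ι.symm hG₀, fun i => ?_, ⟨?_⟩⟩
  · rw [Qcqs.support_eq_of_iso ((DerivedCategory.homologyFunctor _ i).mapIso ι), hTe]
    exact hG₀s i
  · exact ((Scheme.Modules.restrictFunctor U.ι).mapDerivedCategoryFactors.app G).symm ≪≫
      (DCoh.restrictD U.ι).mapIso ι ≪≫ φ

end Affine

end Groth.Agent.Lib.Helper2.Kos
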