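import Groth.Agent.Lib.Helper2.Kos.Factor
import Groth.Agent.Lib.Helper2.Aff.RGammaRecol
import Groth.Agent.Lib.Helper2.Aff.ApproxOpen
import Groth.Agent.Lib.Helper2.Aff.QcqsPush
import Groth.Agent.Lib.Helper2.Aff.HomVanTrunc
import Groth.Agent.Lib.Helper18.DRDC12

/-!
# Orthogonality to Koszul complexes and pushforward from the complement (helper2)
-/

set_option autoImplicit false
set_option linter.style.haveILetI false
universe u
open CategoryTheory CategoryTheory.Limits CategoryTheory.Pretriangulated DerivedCategory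
  AlgebraicGeometry

attribute [local instance] HasDerivedCategory.standard

namespace Groth.Agent.Lib.Helper2.Kos

open Groth.Agent.Lib.Helper18.DR Groth.Agent.Lib.Helper2.TExactIso Groth.Agent.Lib.Helper2.Aff
  Groth.Agent.Lib.Helper2.Stk Groth.Agent.Lib.Helper13

section Shift

variable {C : Type*} [Category C] [Preadditive C] [HasShift C ℤ]
  [∀ n : ℤ, (shiftFunctor C n).Additive]

lemma hom_shift_eq_zero' (P L : C) (i : ℤ) (h : ∀ φ : P⟦-i⟧ ⟶ L, φ = 0) (ψ : P ⟶ L⟦i⟧) :
    ψ = 0 := by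
  have h1 := h (ψ⟦-i⟧' ≫ (shiftFunctorCompIsoId C i (-i) (by omega)).hom.app L)
  have h2 : ψ⟦-i⟧' = 0 := by
    rw [← cancel_mono ((shiftFunctorCompIsoId C i (-i) (by omega)).hom.app L), h1, zero_comp]
  exact (shiftFunctor C (-i)).map_injective (h2.trans (Functor.map_zero _ _ _).symm)

end Shift

/-- K-injective resolutions give `RΓ_Z` -/
theorem hasRgammaZ {U X : Scheme.{u}} (j : U ⟶ X) [IsOpenImmersion j] : CxOX.HasRgammaZ j :=
  LocalRes.hasRightDerivedFunctor _ (exists_local_resolution (hKinj X)) (CxOX.gammaZKh j)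

variable {A : Type u} [CommRing A]

theorem ftors_H_of_isKoszul {P K : Dual.D A} {l : List A} {c : P ⟶ K}
    (h : IsKoszul (A := A) P l K c) (f : A) (hf : f ∈ l) (i : ℤ) : FTors f ((H A i).obj K) := by
  obtain ⟨n, hn⟩ := exists_pow_smul_id_eq_zero h f hf
  intro x
  refine ⟨n, ?_⟩
  rw [← H_map_smul_id_apply, hn, Functor.map_zero]
  rfl

theorem isZero_H_of_hom_unit_eq_zero (N : Dual.D A) (n : ℤ)
    (h : ∀ φ : Q.obj (unitCx A) ⟶ N⟦n⟧, φ = 0) : IsZero ((H A n).obj N) := by
  haveI : Projective (ModuleCat.of A A) :=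
    (IsProjective.iff_projective (R := A) (P := A)).1 inferInstance
  have h0 : ∀ y : (H A 0).obj (N⟦n⟧), y = 0 := by
    intro y
    let g : ModuleCat.of A A ⟶ (H A 0).obj (N⟦n⟧) :=
      ModuleCat.ofHom (LinearMap.toSpanSingleton A _ y)
    obtain ⟨φ, hφ⟩ := exists_hom_Sg 0 (ModuleCat.of A A) (N⟦n⟧) g
    have hφ0 : φ = 0 := by
      have := h ((DerivedCategory.singleFunctorIsoCompQ _ 0).inv.app (ModuleCat.of A A) ≫ φ)
      rw [← cancel_epi ((DerivedCategory.singleFunctorIsoCompQ _ 0).inv.app (ModuleCat.of A A)),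
        this, comp_zero]
    rw [hφ0, Functor.map_zero, comp_zero] at hφ
    have : g.hom (1 : A) = y := by simp [g]
    rw [← this, ← hφ]
    rfl
  have e := homologyShiftIso N n 0
  rw [add_zero] at e
  haveI : Subsingleton ((H A 0).obj (N⟦n⟧)) := ⟨fun a b => (h0 a).trans (h0 b).symm⟩
  exact (ModuleCat.isZero_of_subsingleton _).of_iso e.symm

theorem isZero_of_hom_unit_eq_zero (N : Dual.D A)
    (h : ∀ (n : ℤ) (φ : Q.obj (unitCx A) ⟶ N⟦n⟧), φ = 0) : IsZero N := by
  apply Groth.Agent.Lib.Helper2.Aff.AffPush.isZero_of_forall_isZero_homology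
  intro n
  exact isZero_H_of_hom_unit_eq_zero N n (h n)

/-- a map from `A[0]` to an object without `H⁰` vanishes -/
theorem hom_unit_eq_zero (Y : Dual.D A) (h : IsZero ((H A 0).obj Y))
    (φ : Q.obj (unitCx A) ⟶ Y) : φ = 0 := by
  haveI : Projective (ModuleCat.of A A) :=
    (IsProjective.iff_projective (R := A) (P := A)).1 inferInstance
  have := hom_Sg_eq_zero 0 (ModuleCat.of A A) Y
    ((DerivedCategory.singleFunctorIsoCompQ _ 0).hom.app (ModuleCat.of A A) ≫ φ)
    (h.eq_of_tgt _ _)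
  rw [← cancel_epi ((DerivedCategory.singleFunctorIsoCompQ _ 0).hom.app (ModuleCat.of A A)),
    this, comp_zero]

variable [PreservesFiniteLimits (tilde.functor (CommRingCat.of A))]

/-- a Koszul tower on `l` restricts to zero on every open missing `V(l)` -/
theorem isZero_restrictD_tildeD_of_isKoszul {P K : Dual.D A} {l : List A} {c : P ⟶ K}
    (h : IsKoszul (A := A) P l K c) (W : (Spec (CommRingCat.of A)).Opens)
    (hW : (PrimeSpectrum.zeroLocus {a | a ∈ l} : Set (PrimeSpectrum A)) ⊆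
      ((W : Set (Spec (CommRingCat.of A))))ᶜ) :
    IsZero ((DCoh.restrictD W.ι).obj ((DCoh.tildeD (CommRingCat.of A)).obj K)) := by
  apply ApproxOpen.isZero_restrictD_of_support
  intro i
  refine subset_trans ?_ hW
  exact support_of_ftors_H K _ (Iso.refl _) i {a | a ∈ l}
    (fun f hf => ftors_H_of_isKoszul h f hf i)

section Main

attribute [local instance] Groth.Agent.Lib.Helper2.Stk.hasRpush

variable (fs : List A)

theorem coe_puncturedOpen_compl :
    ((LocCoh.puncturedOpen A (Ideal.span {a | a ∈ fs}) : (Spec (CommRingCat.of A)).Opens) :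
      Set (Spec (CommRingCat.of A)))ᶜ =
      (PrimeSpectrum.zeroLocus {a | a ∈ fs} : Set (PrimeSpectrum A)) := by
  change ((PrimeSpectrum.zeroLocus ((Ideal.span {a | a ∈ fs} : Ideal A) : Set A))ᶜ)ᶜ = _
  rw [compl_compl, PrimeSpectrum.zeroLocus_span]

theorem isCompact_puncturedOpen :
    IsCompact ((LocCoh.puncturedOpen A (Ideal.span {a | a ∈ fs}) :
      (Spec (CommRingCat.of A)).Opens) : Set (Spec (CommRingCat.of A))) := by
  change IsCompact ((PrimeSpectrum.zeroLocus ((Ideal.span {a | a ∈ fs} : Ideal A) : Set A))ᶜ :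
    Set (PrimeSpectrum A))
  rw [PrimeSpectrum.zeroLocus_span]
  exact (PrimeSpectrum.isCompact_isOpen_iff.mpr ⟨(List.finite_toSet fs).toFinset, by simp⟩).1

theorem isZero_restrictD_shift_koszul (n : ℤ) :
    IsZero ((DCoh.restrictD (LocCoh.puncturedOpen A (Ideal.span {a | a ∈ fs})).ι).obj
      (((DCoh.tildeD (CommRingCat.of A)).obj (Q.obj (Koszul.koszul A fs)))⟦n⟧)) := by
  have h0 := isZero_restrictD_tildeD_of_isKoszul (isKoszul_koszul fs)
    (LocCoh.puncturedOpen A (Ideal.span {a | a ∈ fs})) (coe_puncturedOpen_compl fs).ge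
  exact IsZero.of_iso ((shiftFunctor _ n).map_isZero h0)
    (((DCoh.restrictD (LocCoh.puncturedOpen A (Ideal.span {a | a ∈ fs})).ι).commShiftIso n).app _)

theorem orth_iff (E : DCoh.D (Spec (CommRingCat.of A))) (hE : DCoh.IsQCohD E) :
    (∃ M : DCoh.D (LocCoh.puncturedOpen A (Ideal.span {a | a ∈ fs}) : Scheme.{u}),
      DCoh.IsQCohD M ∧
        Nonempty (E ≅ (DCoh.Rpush (LocCoh.puncturedOpen A (Ideal.span {a | a ∈ fs})).ι).obj M)) ↔
    ∀ (n : ℤ) (φ : ((DCoh.tildeD (CommRingCat.of A)).obj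
      (DerivedCategory.Q.obj (Koszul.koszul A fs)))⟦n⟧ ⟶ E), φ = 0 := by
  let U := LocCoh.puncturedOpen A (Ideal.span {a | a ∈ fs})
  haveI := hasRgammaZ U.ι
  constructor
  · rintro ⟨M, hM, ⟨e⟩⟩ n φ
    have := RGammaRecol.hom_Rpush_eq_zero U _ (isZero_restrictD_shift_koszul fs n) M (φ ≫ e.hom)
    rw [← cancel_mono e.hom, this, zero_comp]
  · intro hyp
    obtain ⟨h, k, hT⟩ := RGammaRecol.exists_triangle U E
    haveI : CompactSpace ↥(U : Scheme.{u}) :=
      isCompact_iff_compactSpace.1 (isCompact_puncturedOpen fs)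
    haveI : QuasiCompact U.ι := quasiCompact_of_compactSpace U.ι
    have hqR : DCoh.IsQCohD ((DCoh.Rpush U.ι).obj ((DCoh.restrictD U.ι).obj E)) :=
      Qcqs.isQCohD_Rpush U.ι _ (isQCohD_restrict U.ι E hE)
    have hqN : DCoh.IsQCohD ((CxOX.RgammaZ U.ι).obj E) := Qcqs.isQCohD_obj₁ _ hT hE hqR
    -- `N = RΓ_Z E` is right orthogonal to the Koszul complex
    have hN0 : ∀ (n : ℤ) (φ : ((DCoh.tildeD (CommRingCat.of A)).obj
        (DerivedCategory.Q.obj (Koszul.koszul A fs)))⟦n⟧ ⟶ (CxOX.RgammaZ U.ι).obj E), φ = 0 := by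
      intro n φ
      have h0 : φ ≫ (Triangle.mk ((CxOX.RgammaZToId U.ι).app E) h k).invRotate.mor₂ = 0 :=
        hyp n _
      obtain ⟨g, hg⟩ := Triangle.coyoneda_exact₂ _ (inv_rot_of_distTriang _ hT) φ h0
      have hg0 : g = 0 :=
        RGammaRecol.hom_shift_Rpush_eq_zero U _ (isZero_restrictD_shift_koszul fs n) _ (-1) g
      rw [hg, hg0]
      exact zero_comp
    obtain ⟨hfull, hfaith, hess⟩ := tildeD_fullyFaithful_essImage (CommRingCat.of A)
    obtain ⟨N₀, ⟨ε⟩⟩ := (hess _).1 hqN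
    -- supports
    have hsupp : ∀ i : ℤ, CohB1.support (DCoh.HD ((CxOX.RgammaZ U.ι).obj E) i) ⊆
        (PrimeSpectrum.zeroLocus {a | a ∈ fs} : Set (PrimeSpectrum A)) := by
      intro i
      have hz := RGammaRecol.isZero_restrictD_RgammaZ U E
      obtain ⟨e⟩ := OpenEquivSupp.nonempty_HD_restrictD_iso U.ι ((CxOX.RgammaZ U.ι).obj E) i
      have hz' := ((DerivedCategory.homologyFunctor _ i).map_isZero hz).of_iso e.symm
      have := (QCohLoc.isZero_restrict_iff U _).1 hz'
      rwa [coe_puncturedOpen_compl] at this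
    have hN₀ : IsZero N₀ := by
      apply isZero_of_hom_unit_eq_zero
      refine hom_eq_zero_of_isKoszul (A := A) (l := fs) ?_ (isKoszul_koszul fs) ?_
      · intro f hf j
        exact tors_unit f N₀ j (ftors_H_of_support N₀ _ ε j {a | a ∈ fs} f hf (hsupp j))
      · intro n ψ
        refine hom_shift_eq_zero' _ _ n (fun φ₀ => ?_) ψ
        apply (DCoh.tildeD (CommRingCat.of A)).map_injective
        rw [Functor.map_zero]
        have := hN0 (-n) (((DCoh.tildeD (CommRingCat.of A)).commShiftIso (-n)).inv.app _ ≫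
          (DCoh.tildeD (CommRingCat.of A)).map φ₀ ≫ ε.hom)
        rw [← cancel_epi (((DCoh.tildeD (CommRingCat.of A)).commShiftIso (-n)).inv.app _),
          ← cancel_mono ε.hom, Category.assoc, this, comp_zero, zero_comp]
    have hN : IsZero ((CxOX.RgammaZ U.ι).obj E) :=
      ((DCoh.tildeD (CommRingCat.of A)).map_isZero hN₀).of_iso ε.symm
    haveI : IsIso h := (Triangle.isZero₁_iff_isIso₂ _ hT).1 hN
    exact ⟨(DCoh.restrictD U.ι).obj E, isQCohD_restrict U.ι E hE, ⟨asIso h⟩⟩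

end Main

end Groth.Agent.Lib.Helper2.Kos
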