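import Groth.Agent.Lib.Helper2.Kos.Bridge

/-!
# Sections of `E ∈ D_QCoh(Spec A)` factor through Koszul complexes (helper2)
-/

set_option autoImplicit false
set_option linter.style.haveILetI false
universe u
open CategoryTheory CategoryTheory.Limits CategoryTheory.Pretriangulated DerivedCategory
  AlgebraicGeometry

attribute [local instance] HasDerivedCategory.standard

namespace Groth.Agent.Lib.Helper2.Kos

open Groth.Agent.Lib.Helper18.DR Groth.Agent.Lib.Helper2.TExactIso Groth.Agent.Lib.Helper2.Aff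

variable {A : Type u} [CommRing A] [PreservesFiniteLimits (tilde.functor (CommRingCat.of A))]

/-- `H^i`-support condition on `tildeD M ≅ E` gives torsion of `H^i M` -/
theorem ftors_H_of_support (M : Dual.D A) (E : DCoh.D (Spec (CommRingCat.of A)))
    (ε : (DCoh.tildeD (CommRingCat.of A)).obj M ≅ E) (i : ℤ) (S : Set A) (f : A) (hf : f ∈ S)
    (h : CohB1.support (DCoh.HD E i) ⊆ (PrimeSpectrum.zeroLocus S : Set (PrimeSpectrum A))) :
    FTors f ((H A i).obj M) := by
  apply ftors_of_support_subset _ f S hf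
  have e : (tilde.functor (CommRingCat.of A)).obj ((H A i).obj M) ≅ DCoh.HD E i :=
    (mapDerivedCategoryHomologyIso (tilde.functor (CommRingCat.of A)) M i).symm ≪≫
      (DerivedCategory.homologyFunctor _ i).mapIso ε
  rw [Qcqs.support_eq_of_iso e]
  exact h

/-- conversely -/
theorem support_of_ftors_H (M : Dual.D A) (E : DCoh.D (Spec (CommRingCat.of A)))
    (ε : (DCoh.tildeD (CommRingCat.of A)).obj M ≅ E) (i : ℤ) (S : Set A)
    (h : ∀ f ∈ S, FTors f ((H A i).obj M)) :
    CohB1.support (DCoh.HD E i) ⊆ (PrimeSpectrum.zeroLocus S : Set (PrimeSpectrum A)) := by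
  have e : (tilde.functor (CommRingCat.of A)).obj ((H A i).obj M) ≅ DCoh.HD E i :=
    (mapDerivedCategoryHomologyIso (tilde.functor (CommRingCat.of A)) M i).symm ≪≫
      (DerivedCategory.homologyFunctor _ i).mapIso ε
  rw [← Qcqs.support_eq_of_iso e]
  exact support_subset_of_ftors _ S h

/-- the structure sheaf as `tildeD` of `A[0]` -/
noncomputable def unitIso :
    DCoh.inD (Spec (CommRingCat.of A)) (Coh.structureModule (Spec (CommRingCat.of A))) ≅
      (DCoh.tildeD (CommRingCat.of A)).obj (Q.obj (unitCx A)) :=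
  (((tilde.functor (CommRingCat.of A)).mapDerivedCategorySingleFunctor 0).app
      (ModuleCat.of A A)).symm ≪≫
    (DCoh.tildeD (CommRingCat.of A)).mapIso
      ((DerivedCategory.singleFunctorIsoCompQ _ 0).app (ModuleCat.of A A))

theorem tors_unit (f : A) (N : Dual.D A) (j : ℤ) (h : FTors f ((H A j).obj N)) :
    Tors f (Q.obj (unitCx A)) (N⟦j⟧) := by
  haveI : Projective (ModuleCat.of A A) :=
    (IsProjective.iff_projective (R := A) (P := A)).1 inferInstance
  refine Tors.of_iso_left ((DerivedCategory.singleFunctorIsoCompQ _ 0).app (ModuleCat.of A A)) ?_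
  exact tors_Sg f 0 (ModuleCat.of A A) (N⟦j⟧) (ftors_shift N j 0 (by rwa [add_zero]))

theorem section_factors (fs : List A) (E : DCoh.D (Spec (CommRingCat.of A)))
    (hE : DCoh.IsQCohD E)
    (hU : ∀ i : ℤ, -(fs.length : ℤ) < i → i ≤ 0 → CohB1.support (DCoh.HD E i) ⊆
      (PrimeSpectrum.zeroLocus {a | a ∈ fs} : Set (PrimeSpectrum A)))
    (s : DCoh.inD (Spec (CommRingCat.of A)) (Coh.structureModule (Spec (CommRingCat.of A))) ⟶ E) :
    ∃ (e : ℕ) (ψ : (DCoh.tildeD (CommRingCat.of A)).obj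
        (DerivedCategory.Q.obj (Koszul.koszul A (fs.map (fun a => a ^ e)))) ⟶ E)
      (t : DCoh.inD (Spec (CommRingCat.of A)) (Coh.structureModule (Spec (CommRingCat.of A))) ⟶
        (DCoh.tildeD (CommRingCat.of A)).obj
          (DerivedCategory.Q.obj (Koszul.koszul A (fs.map (fun a => a ^ e))))),
      t ≫ ψ = s := by
  obtain ⟨hfull, hfaith, hess⟩ := tildeD_fullyFaithful_essImage (CommRingCat.of A)
  obtain ⟨M, ⟨ε⟩⟩ := (hess E).1 hE
  obtain ⟨δ, hδ⟩ := (DCoh.tildeD (CommRingCat.of A)).map_surjective (unitIso.inv ≫ s ≫ ε.inv)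
  have hN : ∀ f ∈ fs, ∀ j : ℕ, j < fs.length → Tors f (Q.obj (unitCx A)) (M⟦-(j : ℤ)⟧) := by
    intro f hf j hj
    apply tors_unit
    exact ftors_H_of_support M E ε _ {a | a ∈ fs} f hf (hU _ (by omega) (by omega))
  obtain ⟨e, he⟩ := exists_factor (A := A) (C := Dual.D A) fs hN δ
  obtain ⟨ψ₀, hψ₀⟩ := he e le_rfl _ _ (isKoszul_koszul (fs.map (· ^ e)))
  refine ⟨e, (DCoh.tildeD (CommRingCat.of A)).map ψ₀ ≫ ε.hom,
    unitIso.hom ≫ (DCoh.tildeD (CommRingCat.of A)).map (Q.map (can (fs.map (· ^ e)))), ?_⟩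
  rw [Category.assoc, ← Category.assoc ((DCoh.tildeD (CommRingCat.of A)).map _),
    ← Functor.map_comp, hψ₀, hδ]
  simp

end Groth.Agent.Lib.Helper2.Kos
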