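import Groth.Agent.Lib.Helper2.Kos.Orth
import Groth.Agent.Lib.Helper18.DRFin
import Groth.Agent.Lib.Helper18.DRPC3
import Groth.Agent.Lib.Helper18.DRPC2
import Groth.Agent.Lib.Helper18.DRTri
import Groth.Agent.Lib.Helper13.GoodMap
import Groth.Agent.Lib.Helper18.DRLBC

/-!
# Approximation by perfect complexes in `D(A)` with torsion cohomology (helper2)

Stacks 36.14.2 (affine case of approximation), in algebraic form.
-/

set_option autoImplicit false
set_option linter.style.haveILetI false
universe u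
open CategoryTheory CategoryTheory.Limits CategoryTheory.Pretriangulated DerivedCategory
open ZeroObject

attribute [local instance] HasDerivedCategory.standard

namespace Groth.Agent.Lib.Helper2.Kos

open Groth.Agent.Lib.Helper18.DR Groth.Agent.Lib.Helper18.DR.HomBC
  Groth.Agent.Lib.Helper2.TExactIso Groth.Agent.Lib.Helper13.GoodMap

variable {A : Type u} [CommRing A]

theorem ftors_pow' {f : A} {M : Type*} [AddCommGroup M] [Module A M] (n : ℕ)
    (h : FTors (f ^ n) M) : FTors f M := by
  intro x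
  obtain ⟨k, hk⟩ := h x
  exact ⟨n * k, by rwa [pow_mul]⟩

theorem ftors_of_exact {f : A} (S : ShortComplex (ModuleCat.{u} A)) (hS : S.Exact)
    (h₁ : FTors f S.X₁) (h₃ : FTors f S.X₃) : FTors f S.X₂ := by
  intro x
  obtain ⟨a, ha⟩ := h₃ (S.g x)
  have h0 : S.g ((f ^ a) • x) = 0 := by rw [map_smul, ha]
  obtain ⟨y, hy⟩ := (ShortComplex.moduleCat_exact_iff S).1 hS _ h0
  obtain ⟨b, hb⟩ := h₁ y
  refine ⟨b + a, ?_⟩
  rw [pow_add, mul_smul, ← hy, ← map_smul, hb, map_zero]

theorem ftors_of_isZero {f : A} {M : ModuleCat.{u} A} (h : IsZero M) : FTors f M := by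
  intro x
  haveI := ModuleCat.subsingleton_of_isZero h
  exact ⟨0, Subsingleton.elim _ _⟩

/-- perfectness along a Koszul tower in `D(A)` -/
theorem isPerfect_of_isKoszul {P : Dual.D A} (hP : DRing.IsPerfect A P) {l : List A} :
    ∀ {K : Dual.D A} {c : P ⟶ K}, IsKoszul (A := A) P l K c → DRing.IsPerfect A K := by
  induction l with
  | nil =>
    intro K c h
    haveI : IsIso c := h
    exact isPerfect_of_iso (asIso c) hP
  | cons g l ih =>
    rintro K' c' ⟨K, c, ι, π, h, hT, rfl⟩
    exact isPerfect_obj₃ _ hT (ih h) (ih h)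

/-- a Koszul tower over an object in degrees `≤ t` stays in degrees `≤ t`, and the structure
map is surjective on `H^t` -/
theorem isLE_epi_of_isKoszul {P : Dual.D A} (t : ℤ) (hP : ∀ i : ℤ, t < i → IsZero ((H A i).obj P))
    {l : List A} :
    ∀ {K : Dual.D A} {c : P ⟶ K}, IsKoszul (A := A) P l K c →
      (∀ i : ℤ, t < i → IsZero ((H A i).obj K)) ∧ Epi ((H A t).map c) := by
  induction l with
  | nil =>
    intro K c h
    haveI : IsIso c := h
    exact ⟨fun i hi => (hP i hi).of_iso ((H A i).mapIso (asIso c).symm), inferInstance⟩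
  | cons g l ih =>
    rintro K' c' ⟨K, c, ι, π, h, hT, rfl⟩
    obtain ⟨h1, h2⟩ := ih h
    constructor
    · intro i hi
      refine (HomologySequence.exact₃ _ hT i (i + 1) rfl).isZero_X₂ ?_ ?_
      · exact (h1 i hi).eq_of_src _ _
      · exact (h1 (i + 1) (by omega)).eq_of_tgt _ _
    · haveI := h2
      haveI : Epi ((H A t).map ι) := by
        have := (HomologySequence.epi_homologyMap_mor₂_iff _ hT t (t + 1) rfl).2
          ((h1 (t + 1) (by omega)).eq_of_tgt _ _)
        exact this
      rw [Functor.map_comp]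
      exact epi_comp _ _

/-- the conclusion of approximation for `E` -/
def Approx (fs : List A) (m : ℤ) (E : Dual.D A) : Prop :=
  ∃ (P : Dual.D A) (α : P ⟶ E), DRing.IsPerfect A P ∧
    (∀ (i : ℤ), ∀ f ∈ fs, FTors f ((H A i).obj P)) ∧ Good m α

/-- lifting an approximation of the cone -/
theorem approx_lift (fs : List A) (m : ℤ) {K E C : Dual.D A} (ψ : K ⟶ E) (π : E ⟶ C)
    (w : C ⟶ K⟦(1 : ℤ)⟧) (hT : Triangle.mk ψ π w ∈ distTriang (Dual.D A))
    (hK : DRing.IsPerfect A K) (hKt : ∀ (i : ℤ), ∀ f ∈ fs, FTors f ((H A i).obj K))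
    (hC : Approx fs m C) : Approx fs m E := by
  obtain ⟨P', α', hP', hP't, hα'⟩ := hC
  obtain ⟨P, u, v, hT₁⟩ := distinguished_cocone_triangle₂ (α' ≫ w)
  obtain ⟨β, hβ₁, hβ₂⟩ := complete_distinguished_triangle_morphism₂ _ _ hT₁ hT (𝟙 K) α' (by
    show (α' ≫ w) ≫ (𝟙 K)⟦(1 : ℤ)⟧' = α' ≫ w
    rw [CategoryTheory.Functor.map_id, Category.comp_id])
  refine ⟨P, β, ?_, ?_, ?_⟩
  · exact (isPerfect_two_of_three _ hT₁).2.1 hK hP'
  · intro i f hf
    exact ftors_of_exact _ (HomologySequence.exact₂ _ hT₁ i) (hKt i f hf) (hP't i f hf)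
  · let φ : Triangle.mk u v (α' ≫ w) ⟶ Triangle.mk ψ π w :=
      { hom₁ := 𝟙 K
        hom₂ := β
        hom₃ := α'
        comm₁ := hβ₁
        comm₂ := hβ₂
        comm₃ := by
          show (α' ≫ w) ≫ (𝟙 K)⟦(1 : ℤ)⟧' = α' ≫ w
          rw [CategoryTheory.Functor.map_id, Category.comp_id] }
    have := good_third (m := m) (inv_rot_of_distTriang _ hT₁) (inv_rot_of_distTriang _ hT)
      ((invRotate (Dual.D A)).map φ) (good_shift hα' (-1) (m + 1) (by omega))
      (good_of_isIso (𝟙 K) m)
    exact this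

/-- killing one class in the top degree by a perfect torsion complex -/
theorem approx_kill (fs : List A) (m t : ℤ) (hmt : m ≤ t) (E : Dual.D A)
    (htors : ∀ i : ℤ, m - (fs.length : ℤ) + 1 ≤ i → ∀ f ∈ fs, FTors f ((H A i).obj E))
    (x : (H A t).obj E) :
    ∃ (K : Dual.D A) (ψ : K ⟶ E), DRing.IsPerfect A K ∧
      (∀ (i : ℤ), ∀ f ∈ fs, FTors f ((H A i).obj K)) ∧
      (∀ i : ℤ, t < i → IsZero ((H A i).obj K)) ∧ ∃ y, ((H A t).map ψ).hom y = x := by
  let F : ModuleCat.{u} A := ModuleCat.of A A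
  haveI : Projective F := (IsProjective.iff_projective (R := A) (P := A)).1 inferInstance
  haveI : Module.Finite A F := inferInstanceAs (Module.Finite A A)
  haveI : Module.Free A F := inferInstanceAs (Module.Free A A)
  let g : F ⟶ (H A t).obj E := ModuleCat.ofHom (LinearMap.toSpanSingleton A _ x)
  obtain ⟨δ, hδ⟩ := exists_hom_Sg t F E g
  have hN : ∀ f ∈ fs, ∀ j : ℕ, j < fs.length → Tors f (Sg t F) (E⟦-(j : ℤ)⟧) := by
    intro f hf j hj
    exact tors_Sg f t F _ (ftors_shift E (-(j : ℤ)) t (htors _ (by omega) f hf))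
  obtain ⟨e, he⟩ := exists_factor (A := A) (C := Dual.D A) fs hN δ
  obtain ⟨K, c, hK⟩ := exists_isKoszul (A := A) (Sg t F) (fs.map (· ^ e))
  obtain ⟨ψ, hψ⟩ := he e le_rfl K c hK
  have hSgP : DRing.IsPerfect A (Sg t F) :=
    ⟨_, t, t, vanishesOutside_single t F,
      termwiseFiniteProjective_of_finiteFree (termwiseFiniteFree_single t F), ⟨Iso.refl _⟩⟩
  obtain ⟨hle, hepi⟩ := isLE_epi_of_isKoszul t
    (fun i hi => isZero_of_isLE (Sg t F) t i hi) hK
  refine ⟨K, ψ, isPerfect_of_isKoszul hSgP hK, ?_, hle, ?_⟩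
  · intro i f hf
    exact ftors_pow' e (ftors_H_of_isKoszul hK (f ^ e) (List.mem_map.2 ⟨f, hf, rfl⟩) i)
  · refine ⟨((H A t).map c).hom ((HSg t F).inv.hom (1 : A)), ?_⟩
    have h1 : (HSg t F).inv ≫ (H A t).map c ≫ (H A t).map ψ = g := by
      rw [← Functor.map_comp, hψ]
      exact hδ
    have h2 := congrArg (fun φ : F ⟶ (H A t).obj E => φ.hom (1 : A)) h1
    have h3 : g.hom (1 : A) = x := by
      show (LinearMap.toSpanSingleton A _ x) (1 : A) = x
      simp
    exact (h2.trans h3 :)

/-- **Approximation in `D(A)`**, by induction on the top degree. -/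
theorem approx_main (fs : List A) (m : ℤ) :
    ∀ (d : ℕ) (E : Dual.D A), DRing.IsPseudoCoherent A m E →
      (∀ i : ℤ, m - (fs.length : ℤ) + 1 ≤ i → ∀ f ∈ fs, FTors f ((H A i).obj E)) →
      (∀ i : ℤ, m + (d : ℤ) ≤ i → IsZero ((H A i).obj E)) → Approx fs m E := by
  intro d
  induction d with
  | zero =>
    intro E _ _ hvan
    refine ⟨(0 : Dual.D A), (0 : (0 : Dual.D A) ⟶ E), isPerfect_of_isZero _ (isZero_zero _), ?_, ?_, ?_⟩
    · intro i f _
      exact ftors_of_isZero ((H A i).map_isZero (isZero_zero _))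
    · intro i hi
      exact isIso_of_isZero_isZero _ ((H A i).map_isZero (isZero_zero _))
        (hvan i (by simp; omega))
    · exact ⟨fun a b _ => (hvan m (by simp)).eq_of_src a b⟩
  | succ d ih =>
    have inner : ∀ (n : ℕ) (E : Dual.D A), DRing.IsPseudoCoherent A m E →
        (∀ i : ℤ, m - (fs.length : ℤ) + 1 ≤ i → ∀ f ∈ fs, FTors f ((H A i).obj E)) →
        (∀ i : ℤ, m + (d : ℤ) < i → IsZero ((H A i).obj E)) →
        (∃ s : Fin n → (H A (m + (d : ℤ))).obj E, Submodule.span A (Set.range s) = ⊤) →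
        Approx fs m E := by
      intro n
      induction n with
      | zero =>
        rintro E hpc htors hvan ⟨s, hs⟩
        refine ih E hpc htors (fun i hi => ?_)
        rcases hi.eq_or_lt with rfl | hi'
        · have hbot : (⊤ : Submodule A ((H A (m + (d : ℤ))).obj E)) = ⊥ := by
            rw [← hs]
            simp
          haveI : Subsingleton ((H A (m + (d : ℤ))).obj E) :=
            ⟨fun a b => by
              have ha : a ∈ (⊥ : Submodule A _) := hbot ▸ Submodule.mem_top
              have hb : b ∈ (⊥ : Submodule A _) := hbot ▸ Submodule.mem_top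
              rw [(Submodule.mem_bot A).1 ha, (Submodule.mem_bot A).1 hb]⟩
          exact ModuleCat.isZero_of_subsingleton _
        · exact hvan i hi'
      | succ n ihn =>
        rintro E hpc htors hvan ⟨s, hs⟩
        obtain ⟨K, ψ, hKp, hKt, hKle, y, hy⟩ :=
          approx_kill fs m (m + (d : ℤ)) (by omega) E htors (s 0)
        obtain ⟨C, π, w, hT⟩ := distinguished_cocone_triangle ψ
        refine approx_lift fs m ψ π w hT hKp hKt (ihn C ?_ ?_ ?_ ?_)
        · exact isPseudoCoherent_obj₃ (Triangle.mk ψ π w) hT m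
            (isPseudoCoherent_of_isPerfect hKp (m + 1)) hpc
        · intro i hi f hf
          exact ftors_of_exact _ (HomologySequence.exact₃ _ hT i (i + 1) rfl)
            (htors i hi f hf) (hKt (i + 1) f hf)
        · intro i hi
          refine (HomologySequence.exact₃ _ hT i (i + 1) rfl).isZero_X₂ ?_ ?_
          · exact (hvan i hi).eq_of_src _ _
          · exact (hKle (i + 1) (by omega)).eq_of_tgt _ _
        · have hepi : Epi ((H A (m + (d : ℤ))).map π) :=
            (HomologySequence.epi_homologyMap_mor₂_iff _ hT (m + (d : ℤ)) (m + (d : ℤ) + 1) rfl).2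
              ((hKle (m + (d : ℤ) + 1) (by omega)).eq_of_tgt _ _)
          have hsurj := (ModuleCat.epi_iff_surjective _).1 hepi
          refine ⟨fun i => ((H A (m + (d : ℤ))).map π).hom (s i.succ), ?_⟩
          have h0 : ((H A (m + (d : ℤ))).map π).hom (s 0) = 0 := by
            rw [← hy]
            have hz : (H A (m + (d : ℤ))).map ψ ≫ (H A (m + (d : ℤ))).map π = 0 := by
              have hz0 : ψ ≫ π = 0 := comp_distTriang_mor_zero₁₂ _ hT
              rw [← Functor.map_comp, hz0, Functor.map_zero]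
            exact congrArg (fun φ : (H A (m + (d : ℤ))).obj K ⟶ (H A (m + (d : ℤ))).obj C =>
              φ.hom y) hz
          have hle : Submodule.map ((H A (m + (d : ℤ))).map π).hom
              (Submodule.span A (Set.range s)) ≤
              Submodule.span A (Set.range fun i : Fin n =>
                ((H A (m + (d : ℤ))).map π).hom (s i.succ)) := by
            rw [Submodule.map_span]
            refine Submodule.span_le.2 ?_
            rintro _ ⟨_, ⟨j, rfl⟩, rfl⟩
            refine Fin.cases ?_ (fun i => ?_) j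
            · rw [h0]
              exact Submodule.zero_mem _
            · exact Submodule.subset_span ⟨i, rfl⟩
          rw [eq_top_iff]
          intro z _
          obtain ⟨x, rfl⟩ := hsurj z
          exact hle (Submodule.mem_map_of_mem (hs ▸ Submodule.mem_top))
    intro E hpc htors hvan
    have hvan' : ∀ i : ℤ, m + (d : ℤ) < i → IsZero ((H A i).obj E) := fun i hi =>
      hvan i (by push_cast; omega)
    haveI hfin : Module.Finite A ((H A (m + (d : ℤ))).obj E) :=
      finite_H_of_isPseudoCoherent E (m + (d : ℤ))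
        (isPseudoCoherent_mono (by omega) hpc) hvan'
    obtain ⟨n, s, hs⟩ := Module.Finite.exists_fin (R := A) (M := (H A (m + (d : ℤ))).obj E)
    exact inner n E hpc htors hvan' ⟨s, hs⟩

/-- an `m`-pseudo-coherent object is bounded above -/
theorem exists_bound_of_isPseudoCoherent (m : ℤ) (E : Dual.D A)
    (hpc : DRing.IsPseudoCoherent A m E) :
    ∃ d : ℕ, ∀ i : ℤ, m + (d : ℤ) ≤ i → IsZero ((H A i).obj E) := by
  obtain ⟨E', a, b, α, hv, -, hiso, -⟩ := hpc
  refine ⟨(max b m - m + 1).toNat, fun i hi => ?_⟩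
  have hi' : max b m < i := by
    have := Int.self_le_toNat (max b m - m + 1)
    omega
  haveI := hiso i (lt_of_le_of_lt (le_max_right _ _) hi')
  haveI := isLE_toD_of_vanishesAbove E' b (VanishesOutside.above hv)
  exact (isZero_of_isLE (DRing.toD E') b i (lt_of_le_of_lt (le_max_left _ _) hi')).of_iso
    (asIso ((H A i).map α)).symm

/-- **Approximation by perfect complexes with torsion cohomology in `D(A)`** (Stacks 36.14.2). -/
theorem approx (fs : List A) (m : ℤ) (E : Dual.D A) (hpc : DRing.IsPseudoCoherent A m E)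
    (htors : ∀ i : ℤ, m - (fs.length : ℤ) + 1 ≤ i → ∀ f ∈ fs, FTors f ((H A i).obj E)) :
    Approx fs m E := by
  obtain ⟨d, hd⟩ := exists_bound_of_isPseudoCoherent m E hpc
  exact approx_main fs m d E hpc htors hd

end Groth.Agent.Lib.Helper2.Kos
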