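import Groth.Agent.Lib.Helper2.Kos.KoszulD
import Groth.Agent.Lib.Helper2.Aff.TildeEquiv
import Groth.Agent.Lib.Helper2.Aff.CohPush
import Groth.Agent.Lib.Helper13.QCohLoc
import Groth.Prelude.Def_Wider

/-!
# Bridge between `D(A)` and `D_QCoh(Spec A)`: supports vs torsion (helper2)
-/

set_option autoImplicit false
set_option linter.style.haveILetI false
universe u
open CategoryTheory CategoryTheory.Limits CategoryTheory.Pretriangulated DerivedCategory
  AlgebraicGeometry

attribute [local instance] HasDerivedCategory.standard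

namespace Groth.Agent.Lib.Helper2.Kos

open Groth.Agent.Lib.Helper18.DR Groth.Agent.Lib.Helper2.TExactIso Groth.Agent.Lib.Helper2.Aff

variable {A : Type u} [CommRing A]

section R

variable (R : CommRingCat.{u})

theorem mem_support_tilde_iff (H : ModuleCat.{u} R) (x : PrimeSpectrum R) :
    x ∈ CohB1.support ((tilde.functor R).obj H) ↔ x ∈ Module.support R H := by
  have h1 := IsLocalizedModule.subsingleton_iff x.asIdeal.primeCompl
    (tilde.toStalk (R := R) H x).hom
  have h2 := Module.notMem_support_iff' (R := R) (M := H) (p := x)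
  constructor
  · intro hx
    by_contra hn
    apply hx
    apply h1.2
    intro m
    obtain ⟨r, hr, hrm⟩ := h2.1 hn m
    exact ⟨r, hr, hrm⟩
  · intro hx hs
    have := h2.2 (fun m => by
      obtain ⟨r, hr, hrm⟩ := h1.1 hs m
      exact ⟨r, hr, hrm⟩)
    exact this hx

theorem ftors_of_support_subset' (H : ModuleCat.{u} R) (f : R) (S : Set R) (hf : f ∈ S)
    (h : CohB1.support ((tilde.functor R).obj H) ⊆
      (PrimeSpectrum.zeroLocus S : Set (PrimeSpectrum R))) : FTors (A := R) f H := by
  have h1 : Module.support R H ⊆ PrimeSpectrum.zeroLocus {f} := by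
    intro x hx
    have := (PrimeSpectrum.mem_zeroLocus _ _).1 (h ((mem_support_tilde_iff R H x).2 hx))
    refine (PrimeSpectrum.mem_zeroLocus _ _).2 ?_
    intro g hg
    rw [Set.mem_singleton_iff] at hg
    subst hg
    exact this hf
  have h2 := (LocalizedModule.subsingleton_iff_support_subset (R := R) (M := H) (f := f)).2 h1
  intro m
  obtain ⟨r, ⟨n, rfl⟩, hr⟩ := (LocalizedModule.subsingleton_iff (R := R) (M := H)).1 h2 m
  exact ⟨n, hr⟩

theorem support_subset_of_ftors' (H : ModuleCat.{u} R) (S : Set R)
    (h : ∀ f ∈ S, FTors (A := R) f H) :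
    CohB1.support ((tilde.functor R).obj H) ⊆
      (PrimeSpectrum.zeroLocus S : Set (PrimeSpectrum R)) := by
  intro x hx
  let y : PrimeSpectrum R := x
  have hx' : y ∈ Module.support R H := (mem_support_tilde_iff R H y).1 hx
  refine (PrimeSpectrum.mem_zeroLocus y S).2 ?_
  intro f hf
  by_contra hfx
  have : y ∉ Module.support R H := by
    rw [Module.notMem_support_iff']
    intro m
    obtain ⟨n, hn⟩ := h f hf m
    exact ⟨f ^ n, fun hh => hfx (Ideal.IsPrime.mem_of_pow_mem (PrimeSpectrum.isPrime y) n hh), hn⟩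
  exact this hx'

end R

theorem ftors_of_support_subset (H : ModuleCat.{u} A) (f : A) (S : Set A) (hf : f ∈ S)
    (h : CohB1.support ((tilde.functor (CommRingCat.of A)).obj H) ⊆
      (PrimeSpectrum.zeroLocus S : Set (PrimeSpectrum A))) : FTors f H :=
  ftors_of_support_subset' (CommRingCat.of A) H f S hf h

theorem support_subset_of_ftors (H : ModuleCat.{u} A) (S : Set A) (h : ∀ f ∈ S, FTors f H) :
    CohB1.support ((tilde.functor (CommRingCat.of A)).obj H) ⊆
      (PrimeSpectrum.zeroLocus S : Set (PrimeSpectrum A)) :=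
  support_subset_of_ftors' (CommRingCat.of A) H S h

end Groth.Agent.Lib.Helper2.Kos
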