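import Groth.Agent.Lib.Helper2.Kos.Tower
import Groth.Prelude.Def_Koszul
import Groth.Agent.Lib.Helper18.BCHom3
import Groth.Agent.Lib.Helper18.DRInd
import Groth.Agent.Lib.Helper2.TExact.WeakSerre

/-!
# Koszul complexes in `D(A)` as Koszul towers; torsion of `Hom` (helper2)
-/

set_option autoImplicit false
set_option linter.style.haveILetI false
universe u
open CategoryTheory CategoryTheory.Limits CategoryTheory.Pretriangulated DerivedCategory

attribute [local instance] HasDerivedCategory.standard

namespace Groth.Agent.Lib.Helper2.Kos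

open Groth.Agent.Lib.Helper18.DR Groth.Agent.Lib.Helper18.DR.HomBC
  Groth.Agent.Lib.Helper2.TExactIso

variable {A : Type u} [CommRing A]

/-- `A[0]` as a complex -/
noncomputable abbrev unitCx (A : Type u) [CommRing A] : CochainComplex (ModuleCat.{u} A) ℤ :=
  (CochainComplex.singleFunctor (ModuleCat.{u} A) 0).obj (ModuleCat.of A A)

/-- the canonical map `A[0] ⟶ K(l)` -/
noncomputable def can : (l : List A) → (unitCx A ⟶ Koszul.koszul A l)
  | [] => 𝟙 _
  | f :: l => can l ≫ CochainComplex.mappingCone.inr (f • 𝟙 (Koszul.koszul A l))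

theorem isKoszul_koszul (l : List A) :
    IsKoszul (A := A) (C := Dual.D A) (Q.obj (unitCx A)) l (Q.obj (Koszul.koszul A l))
      (Q.map (can l)) := by
  induction l with
  | nil =>
    show IsIso (Q.map (𝟙 _))
    rw [CategoryTheory.Functor.map_id]
    infer_instance
  | cons f l ih =>
    let φ : Koszul.koszul A l ⟶ Koszul.koszul A l := f • 𝟙 (Koszul.koszul A l)
    have hT : Q.mapTriangle.obj (CochainComplex.mappingCone.triangle φ) ∈ distTriang (Dual.D A) := by
      rw [DerivedCategory.mem_distTriang_iff]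
      exact ⟨_, _, φ, ⟨Iso.refl _⟩⟩
    have hφ : Q.map φ = f • 𝟙 (Q.obj (Koszul.koszul A l)) := by
      rw [Functor.map_smul, CategoryTheory.Functor.map_id]
    refine ⟨Q.obj (Koszul.koszul A l), Q.map (can l), Q.map (CochainComplex.mappingCone.inr φ),
      (Q.mapTriangle.obj (CochainComplex.mappingCone.triangle φ)).mor₃, ih, ?_, ?_⟩
    · rw [← hφ]
      exact hT
    · show Q.map (can l ≫ CochainComplex.mappingCone.inr φ) = _
      exact Functor.map_comp _ _ _

/-- `f`-power torsion modules -/
def FTors (f : A) (M : Type*) [AddCommGroup M] [Module A M] : Prop :=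
  ∀ m : M, ∃ n : ℕ, f ^ n • m = 0

theorem FTors.of_linearEquiv {f : A} {M M' : Type*} [AddCommGroup M] [Module A M]
    [AddCommGroup M'] [Module A M'] (e : M ≃ₗ[A] M') (h : FTors f M) : FTors f M' := by
  intro m
  obtain ⟨n, hn⟩ := h (e.symm m)
  refine ⟨n, ?_⟩
  have := congrArg e hn
  rwa [map_smul, e.apply_symm_apply, map_zero] at this

/-- a linear map from a finite module to a torsion module is killed by a single power -/
theorem exists_pow_smul_eq_zero_of_finite {f : A} {P T : Type*} [AddCommGroup P] [Module A P]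
    [AddCommGroup T] [Module A T] [Module.Finite A P] (hT : FTors f T) (g : P →ₗ[A] T) :
    ∃ n : ℕ, f ^ n • g = 0 := by
  obtain ⟨S, hS⟩ := (Module.Finite.fg_top : (⊤ : Submodule A P).FG)
  choose k hk using fun p : P => hT (g p)
  refine ⟨S.sup k, ?_⟩
  apply LinearMap.ext
  intro p
  have hp : p ∈ Submodule.span A (S : Set P) := by rw [hS]; trivial
  rw [LinearMap.smul_apply, LinearMap.zero_apply]
  induction hp using Submodule.span_induction with
  | mem x hx =>
    obtain ⟨d, hd⟩ : ∃ d, S.sup k = d + k x := ⟨S.sup k - k x, by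
      have := Finset.le_sup (f := k) hx; omega⟩
    rw [hd, pow_add, mul_smul, hk, smul_zero]
  | zero => rw [map_zero, smul_zero]
  | add x y _ _ hx hy => rw [map_add, smul_add, hx, hy, add_zero]
  | smul a x _ hx => rw [map_smul, smul_comm, hx, smul_zero]

theorem tors_Sg (f : A) (n : ℤ) (P : ModuleCat.{u} A) [Module.Finite A P] [Projective P]
    (N : Dual.D A) (h : FTors f ((H A n).obj N)) : Tors f (Sg n P) N := by
  intro φ
  obtain ⟨k, hk⟩ := exists_pow_smul_eq_zero_of_finite h (aLin n P N φ).hom
  refine ⟨k, ?_⟩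
  apply (aLin_bijective n P N).1
  rw [map_smul, map_zero]
  apply ModuleCat.hom_ext
  exact hk

theorem ftors_shift {f : A} (N : Dual.D A) (j n : ℤ) (h : FTors f ((H A (j + n)).obj N)) :
    FTors f ((H A n).obj (N⟦j⟧)) :=
  h.of_linearEquiv (homologyShiftIso N j n).symm.toLinearEquiv

/-- `Hom(P, N)` is `f`-power torsion for perfect `P` when all `Hⁱ(N)` are -/
theorem tors_of_isPerfect (f : A) (P : Dual.D A) (hP : DRing.IsPerfect A P) (N : Dual.D A)
    (h : ∀ i : ℤ, FTors f ((H A i).obj N)) : Tors f P N := by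
  obtain ⟨E, a, b, hv, hp, ⟨e⟩⟩ := hP
  refine Tors.of_iso_left e ?_
  refine bounded_induction (fun X : Dual.D A => Tors f X N) ?_ ?_ ?_ E a b hv ?_
  · intro X Y e hX
    exact hX.of_iso_left e
  · intro X hX
    exact tors_of_isZero hX
  · intro T hT h₁ h₃
    exact Tors.of_triangle T hT h₁ h₃
  · intro i _ _
    haveI := (hp i).1
    haveI : Module.Projective A (E.X i) := (hp i).2
    haveI : Projective (E.X i) := by
      have := (IsProjective.iff_projective (R := A) (P := E.X i)).1 inferInstance
      exact this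
    exact tors_Sg f i (E.X i) N (h i)

end Groth.Agent.Lib.Helper2.Kos
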