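import Groth.Agent.Lib.Helper2.Kos.OrthTrunc
import Groth.Agent.Lib.Helper2.Aff.AffModel
import Groth.Agent.Lib.Helper13.PerfTri

/-!
# Lifting maps from perfect complexes over a quasi-compact open of an affine scheme (helper2)
-/

set_option autoImplicit false
set_option linter.style.haveILetI false
universe u
open CategoryTheory CategoryTheory.Limits CategoryTheory.Pretriangulated DerivedCategory
  AlgebraicGeometry

attribute [local instance] HasDerivedCategory.standard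

namespace Groth.Agent.Lib.Helper2.Kos

open Groth.Agent.Lib.Helper18.DR Groth.Agent.Lib.Helper2.TExactIso Groth.Agent.Lib.Helper2.Aff
  Groth.Agent.Lib.Helper2.Stk Groth.Agent.Lib.Helper13 Groth.Agent.Lib.Helper2.Aff.AffModel

section Fibre

variable {X : Scheme.{u}} (U : X.Opens) [QuasiCompact U.ι] [DCoh.HasRpush U.ι]
  (adj : DCoh.restrictD U.ι ⊣ DCoh.Rpush U.ι)

include adj in
/-- the fibre of the unit `E ⟶ Rj_* j^* E` -/
theorem exists_unit_fibre (E : DCoh.D X) (hE : DCoh.IsQCohD E) :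
    ∃ (N : DCoh.D X) (f : N ⟶ E)
      (h : (DCoh.Rpush U.ι).obj ((DCoh.restrictD U.ι).obj E) ⟶ N⟦(1 : ℤ)⟧),
      Triangle.mk f (adj.unit.app E) h ∈ distTriang _ ∧ DCoh.IsQCohD N ∧
        IsZero ((DCoh.restrictD U.ι).obj N) := by
  obtain ⟨N, f, h, hT⟩ := distinguished_cocone_triangle₁ (adj.unit.app E)
  have hqR : DCoh.IsQCohD ((DCoh.Rpush U.ι).obj ((DCoh.restrictD U.ι).obj E)) :=
    Qcqs.isQCohD_Rpush U.ι _ (isQCohD_restrict U.ι E hE)
  refine ⟨N, f, h, hT, Qcqs.isQCohD_obj₁ _ hT hE hqR, ?_⟩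
  haveI := OpenFF.isIso_counit U.ι adj
  have h1 := adj.left_triangle_components E
  haveI : IsIso ((DCoh.restrictD U.ι).map (adj.unit.app E) ≫
      adj.counit.app ((DCoh.restrictD U.ι).obj E)) := by rw [h1]; exact IsIso.id _
  haveI : IsIso ((DCoh.restrictD U.ι).map (adj.unit.app E)) :=
    IsIso.of_isIso_comp_right _ (adj.counit.app ((DCoh.restrictD U.ι).obj E))
  exact (Triangle.isZero₁_iff_isIso₂ _ ((DCoh.restrictD U.ι).map_distinguished _ hT)).2
    (inferInstanceAs (IsIso ((DCoh.restrictD U.ι).map (adj.unit.app E))))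

/-- an object vanishing on `U` has cohomology sheaves supported off `U` -/
theorem support_HD_of_isZero_restrictD (N : DCoh.D X)
    (hzN : IsZero ((DCoh.restrictD U.ι).obj N)) (i : ℤ) :
    CohB1.support (DCoh.HD N i) ⊆ ((U : Set X))ᶜ := by
  obtain ⟨e⟩ := OpenEquivSupp.nonempty_HD_restrictD_iso U.ι N i
  have hz' := ((DerivedCategory.homologyFunctor _ i).map_isZero hzN).of_iso e.symm
  exact (QCohLoc.isZero_restrict_iff U _).1 hz'

end Fibre

section Model

variable {X : Scheme.{u}} {A : Type u} [CommRing A] (e : X ⟶ Spec (CommRingCat.of A)) [IsIso e]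
  [PreservesFiniteLimits (tilde.functor (CommRingCat.of A))]
  (U : X.Opens) (fs : List A) (hUc : ((U : Set X))ᶜ = e.base ⁻¹' zl {a | a ∈ fs})

theorem ftors_pow {f : A} {M : Type*} [AddCommGroup M] [Module A M] (n : ℕ)
    (h : FTors (f ^ n) M) : FTors f M := by
  intro x
  obtain ⟨k, hk⟩ := h x
  exact ⟨n * k, by rwa [pow_mul]⟩

include hUc in
/-- a Koszul tower on powers of `fs` vanishes on `U` -/
theorem isZero_restrictD_Tm_of_isKoszul {P K : Dual.D A} (n : ℕ) {c : P ⟶ K}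
    (h : IsKoszul (A := A) P (fs.map (· ^ n)) K c) :
    IsZero ((DCoh.restrictD U.ι).obj ((Tm e).obj K)) := by
  apply ApproxOpen.isZero_restrictD_of_support
  intro i
  rw [hUc]
  refine support_Tm_of_ftors e K (Iso.refl _) i {a | a ∈ fs} (fun f hf => ?_)
  exact ftors_pow n (ftors_H_of_isKoszul h (f ^ n) (List.mem_map.2 ⟨f, hf, rfl⟩) i)

/-- perfectness along a Koszul tower -/
theorem isPerfect_Tm_of_isKoszul {P : Dual.D A} (hP : DCoh.IsPerfect ((Tm e).obj P))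
    {l : List A} : ∀ {K : Dual.D A} {c : P ⟶ K} (_ : IsKoszul (A := A) P l K c),
      DCoh.IsPerfect ((Tm e).obj K) := by
  induction l with
  | nil =>
    intro K c h
    haveI : IsIso c := h
    exact PerfTri.isPerfect_of_iso ((Tm e).mapIso (asIso c)) hP
  | cons g l ih =>
    rintro K' c' ⟨K, c, ι, π, h, hT, rfl⟩
    have hK := ih h
    exact (PerfTri.two_of_three _ ((Tm e).map_distinguished _ hT)).1 hK hK

section Main

attribute [local instance] Groth.Agent.Lib.Helper2.Stk.hasRpush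

omit [PreservesFiniteLimits (tilde.functor (CommRingCat.of A))] in
/-- vanishing on an open propagates along a Koszul tower -/
theorem isZero_restrictD_Tm_of_isKoszul_of_isZero
    [PreservesFiniteLimits (tilde.functor (CommRingCat.of A))] (V : X.Opens) {P : Dual.D A}
    (hP : IsZero ((DCoh.restrictD V.ι).obj ((Tm e).obj P))) {l : List A} :
    ∀ {K : Dual.D A} {c : P ⟶ K} (_ : IsKoszul (A := A) P l K c),
      IsZero ((DCoh.restrictD V.ι).obj ((Tm e).obj K)) := by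
  induction l with
  | nil =>
    intro K c h
    haveI : IsIso c := h
    exact hP.of_iso ((DCoh.restrictD V.ι).mapIso ((Tm e).mapIso (asIso c).symm))
  | cons g l ih =>
    rintro K' c' ⟨K, c, ι, π, h, hT, rfl⟩
    have hK := ih h
    have hT' := (DCoh.restrictD V.ι).map_distinguished _ ((Tm e).map_distinguished _ hT)
    exact Triangle.isZero₃_of_isZero₁₂ _ hT' hK hK

include hUc in
theorem lift_map_supp (hU : IsCompact (U : Set X)) [QuasiSeparatedSpace X] (E E' : DCoh.D X)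
    (hE : DCoh.IsPerfect E) (hE' : DCoh.IsQCohD E')
    (α : (DCoh.restrictD U.ι).obj E ⟶ (DCoh.restrictD U.ι).obj E') :
    ∃ (E₁ : DCoh.D X) (β : E₁ ⟶ E) (γ : E₁ ⟶ E'), DCoh.IsPerfect E₁ ∧
      IsIso ((DCoh.restrictD U.ι).map β) ∧
      (DCoh.restrictD U.ι).map β ≫ α = (DCoh.restrictD U.ι).map γ ∧
      ∀ V : X.Opens, IsZero ((DCoh.restrictD V.ι).obj E) →
        IsZero ((DCoh.restrictD V.ι).obj E₁) := by
  haveI : CompactSpace ↥(U : Scheme.{u}) := isCompact_iff_compactSpace.1 hU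
  haveI : QuasiCompact U.ι := quasiCompact_of_compactSpace U.ι
  let adj := Corefl.adjOpen U.ι
  obtain ⟨N, f, h, hT, hqN, hzN⟩ := exists_unit_fibre U adj E' hE'
  obtain ⟨hfull, hfaith, hess⟩ := Tm_full_faithful_essImage e
  haveI := hfull
  haveI := hfaith
  obtain ⟨P, ⟨εP⟩⟩ := (hess E).1 (HomVan.isQCohD_of_isPerfect E hE)
  have hPT : DCoh.IsPerfect ((Tm e).obj P) := PerfTri.isPerfect_of_iso εP.symm hE
  have hP : DRing.IsPerfect A P := (isPerfect_Tm_iff e P).1 hPT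
  obtain ⟨N₀, ⟨εN⟩⟩ := (hess N).1 hqN
  have hN₀ : ∀ (i : ℤ), ∀ g ∈ fs, FTors g ((H A i).obj N₀) := by
    intro i g hg
    refine ftors_of_support_Tm e N₀ εN i {a | a ∈ fs} g hg ?_
    rw [← hUc]
    exact support_HD_of_isZero_restrictD U N hzN i
  let αb : E ⟶ (DCoh.Rpush U.ι).obj ((DCoh.restrictD U.ι).obj E') := adj.homEquiv E _ α
  let δ : E ⟶ N⟦(1 : ℤ)⟧ := αb ≫ h
  obtain ⟨δ₀, hδ₀⟩ := (Tm e).map_surjective
    (εP.hom ≫ δ ≫ (εN.inv)⟦(1 : ℤ)⟧' ≫ ((Tm e).commShiftIso (1 : ℤ)).inv.app N₀)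
  have hN : ∀ g ∈ fs, ∀ j : ℕ, j < fs.length → Tors g P ((N₀⟦(1 : ℤ)⟧)⟦-(j : ℤ)⟧) := by
    intro g hg j _
    apply tors_of_isPerfect g P hP
    intro i
    exact ftors_shift _ (-(j : ℤ)) i (ftors_shift N₀ 1 _ (hN₀ _ g hg))
  obtain ⟨n, hn⟩ := exists_factor (A := A) (C := Dual.D A) fs hN δ₀
  obtain ⟨K, c, hK⟩ := exists_isKoszul (A := A) P (fs.map (· ^ n))
  obtain ⟨ψ, hψ⟩ := hn n le_rfl K c hK
  obtain ⟨P₁, b, w, hT₁⟩ := distinguished_cocone_triangle₁ c
  have hbc : b ≫ c = 0 := comp_distTriang_mor_zero₁₂ _ hT₁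
  have hbδ : b ≫ δ₀ = 0 := by rw [← hψ, ← Category.assoc, hbc, zero_comp]
  have hTm := (Tm e).map_distinguished _ hT₁
  have hKperf := isPerfect_Tm_of_isKoszul e hPT hK
  have hP₁ : DCoh.IsPerfect ((Tm e).obj P₁) := (PerfTri.two_of_three _ hTm).2.2 hPT hKperf
  have hzK := isZero_restrictD_Tm_of_isKoszul e U fs hUc n hK
  have hFT := (DCoh.restrictD U.ι).map_distinguished _ hTm
  haveI hisoFb : IsIso ((DCoh.restrictD U.ι).map ((Tm e).map b)) :=
    (Triangle.isZero₃_iff_isIso₁ _ hFT).1 hzK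
  have hβδ : ((Tm e).map b ≫ εP.hom) ≫ αb ≫ h = 0 := by
    have h0 : (Tm e).map b ≫ (Tm e).map δ₀ = 0 := by
      rw [← Functor.map_comp, hbδ, Functor.map_zero]
    rw [hδ₀] at h0
    have h0' : (Tm e).map b ≫ εP.hom ≫ (αb ≫ h) ≫ (εN.inv)⟦(1 : ℤ)⟧' ≫
        ((Tm e).commShiftIso (1 : ℤ)).inv.app N₀ = 0 := h0
    rw [← cancel_mono ((εN.inv)⟦(1 : ℤ)⟧' ≫ ((Tm e).commShiftIso (1 : ℤ)).inv.app N₀), zero_comp]
    simpa only [Category.assoc] using h0'
  obtain ⟨γ, hγ⟩ : ∃ γ : (Tm e).obj P₁ ⟶ E',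
      ((Tm e).map b ≫ εP.hom) ≫ αb = γ ≫ adj.unit.app E' :=
    Triangle.coyoneda_exact₃ _ hT (((Tm e).map b ≫ εP.hom) ≫ αb)
      (by rw [Category.assoc]; exact hβδ)
  refine ⟨(Tm e).obj P₁, (Tm e).map b ≫ εP.hom, γ, hP₁, ?_, ?_, ?_⟩
  · rw [Functor.map_comp]
    infer_instance
  · apply (adj.homEquiv _ _).injective
    have e1 := adj.homEquiv_naturality_left ((Tm e).map b ≫ εP.hom) α
    have e2 : adj.homEquiv _ _ ((DCoh.restrictD U.ι).map γ) = γ ≫ adj.unit.app E' := by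
      rw [Adjunction.homEquiv_unit, adj.unit_naturality]
    exact e1.trans (hγ.trans e2.symm)
  · intro V hV
    have hPV : IsZero ((DCoh.restrictD V.ι).obj ((Tm e).obj P)) :=
      hV.of_iso ((DCoh.restrictD V.ι).mapIso εP)
    have hKV := isZero_restrictD_Tm_of_isKoszul_of_isZero e V hPV hK
    exact Triangle.isZero₁_of_isZero₂₃ _ ((DCoh.restrictD V.ι).map_distinguished _ hTm) hPV hKV

include hUc in
theorem lift_map (hU : IsCompact (U : Set X)) [QuasiSeparatedSpace X] (E E' : DCoh.D X)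
    (hE : DCoh.IsPerfect E) (hE' : DCoh.IsQCohD E')
    (α : (DCoh.restrictD U.ι).obj E ⟶ (DCoh.restrictD U.ι).obj E') :
    ∃ (E₁ : DCoh.D X) (β : E₁ ⟶ E) (γ : E₁ ⟶ E'), DCoh.IsPerfect E₁ ∧
      IsIso ((DCoh.restrictD U.ι).map β) ∧
      (DCoh.restrictD U.ι).map β ≫ α = (DCoh.restrictD U.ι).map γ := by
  obtain ⟨E₁, β, γ, h1, h2, h3, -⟩ := lift_map_supp e U fs hUc hU E E' hE hE' α
  exact ⟨E₁, β, γ, h1, h2, h3⟩

end Main

end Model

section Affine

attribute [local instance] Groth.Agent.Lib.Helper2.Stk.hasRpush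
attribute [local instance] Groth.Agent.Lib.Helper14.preservesFiniteLimits_tilde

/-- a quasi-compact open of an affine scheme is the complement of the zero locus of finitely
many global functions -/
theorem exists_list_compl_eq (X : Scheme.{u}) [IsAffine X] (U : X.Opens)
    (hU : IsCompact (U : Set X)) :
    ∃ fs : List ↑Γ(X, ⊤), ((U : Set X))ᶜ = X.zeroLocus (U := ⊤) {a | a ∈ fs} := by
  obtain ⟨s, hs, hUs⟩ :=
    (isCompact_and_isOpen_iff_finite_and_eq_biUnion_basicOpen (X := X)).1 ⟨hU, U.isOpen⟩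
  refine ⟨hs.toFinset.toList, ?_⟩
  ext x
  simp only [Set.mem_compl_iff, Scheme.mem_zeroLocus_iff, Set.mem_setOf_eq, Finset.mem_toList,
    Set.Finite.mem_toFinset]
  rw [hUs]
  simp

/-- **Lifting a map from a perfect complex over a quasi-compact open of an affine scheme.** -/
theorem lift_map_affine (X : Scheme.{u}) [IsAffine X] (U : X.Opens) (hU : IsCompact (U : Set X))
    (E E' : DCoh.D X) (hE : DCoh.IsPerfect E) (hE' : DCoh.IsQCohD E')
    (α : (DCoh.restrictD U.ι).obj E ⟶ (DCoh.restrictD U.ι).obj E') :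
    ∃ (E₁ : DCoh.D X) (β : E₁ ⟶ E) (γ : E₁ ⟶ E'), DCoh.IsPerfect E₁ ∧
      IsIso ((DCoh.restrictD U.ι).map β) ∧
      (DCoh.restrictD U.ι).map β ≫ α = (DCoh.restrictD U.ι).map γ := by
  obtain ⟨fs, hfs⟩ := exists_list_compl_eq X U hU
  let e : X ⟶ Spec (CommRingCat.of ↑Γ(X, ⊤)) := X.toSpecΓ
  haveI : IsIso e := inferInstanceAs (IsIso X.toSpecΓ)
  refine lift_map e U fs ?_ hU E E' hE hE' α
  rw [hfs]
  exact (X.toSpecΓ_preimage_zeroLocus _).symm

end Affine

end Groth.Agent.Lib.Helper2.Kos
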