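import Groth.Agent.Lib.Helper2.Kos.RelApprox
import Groth.Agent.Lib.Helper18.DRDesc
import Groth.Agent.Lib.Helper18.DRSum

/-!
# Relative approximation: the localisation predicate (helper2)

For a list `hs` of elements of `A`, the predicate "`M ⊗ A_h` is `m`-pseudo-coherent over `A_h`
for every `h ∈ hs`" satisfies the axioms of `relApprox_main`.
-/

set_option autoImplicit false
set_option linter.style.haveILetI false
universe u
open CategoryTheory CategoryTheory.Limits CategoryTheory.Pretriangulated DerivedCategory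
open TensorProduct

attribute [local instance] HasDerivedCategory.standard

namespace Groth.Agent.Lib.Helper2.Kos

open Groth.Agent.Lib.Helper18.DR Groth.Agent.Lib.Helper18.DR.HomBC
  Groth.Agent.Lib.Helper2.TExactIso Groth.Agent.Lib.Helper13.GoodMap

variable {A : Type u} [CommRing A]

section Mod

variable (h : A) (N : Type u) [AddCommGroup N] [Module A N]

instance isLocalizedModule_mk_away :
    IsLocalizedModule (Submonoid.powers h)
      (TensorProduct.mk A (Localization.Away h) N 1) :=
  (isLocalizedModule_iff_isBaseChange (Submonoid.powers h) (Localization.Away h) _).2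
    (TensorProduct.isBaseChange A N (Localization.Away h))

theorem ftors_of_subsingleton_away
    (hs : Subsingleton (Localization.Away h ⊗[A] N)) : FTors h N := by
  intro x
  have h0 : TensorProduct.mk A (Localization.Away h) N 1 x = 0 := Subsingleton.elim _ _
  obtain ⟨⟨_, k, rfl⟩, hk⟩ := (IsLocalizedModule.eq_zero_iff (Submonoid.powers h) _).1 h0
  exact ⟨k, hk⟩

theorem subsingleton_away_of_ftors (ht : FTors h N) :
    Subsingleton (Localization.Away h ⊗[A] N) := by
  refine ⟨fun a b => ?_⟩
  suffices H : ∀ z : Localization.Away h ⊗[A] N, z = 0 by rw [H a, H b]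
  intro z
  obtain ⟨⟨x, s⟩, hx⟩ := IsLocalizedModule.surj (Submonoid.powers h)
    (TensorProduct.mk A (Localization.Away h) N 1) z
  obtain ⟨k, hk⟩ := ht x
  have h1 : TensorProduct.mk A (Localization.Away h) N 1 x = 0 :=
    (IsLocalizedModule.eq_zero_iff (Submonoid.powers h) _).2 ⟨⟨h ^ k, k, rfl⟩, hk⟩
  have h2 : s • z = 0 := by
    have : s • z = TensorProduct.mk A (Localization.Away h) N 1 x := hx
    rw [this, h1]
  have hu := IsLocalizedModule.map_units (TensorProduct.mk A (Localization.Away h) N 1) s
  have h3 : (algebraMap A (Module.End A (Localization.Away h ⊗[A] N)) (s : A)) z = 0 := h2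
  have hinj := ((Module.End.isUnit_iff _).1 hu).injective
  exact hinj (h3.trans (map_zero _).symm)

/-- if the localisation `N_h` is a finite `A_h`-module then finitely many elements of `N`
generate `N` up to `h`-power torsion -/
theorem exists_finset_of_finite_away
    (hfin : Module.Finite (Localization.Away h) (Localization.Away h ⊗[A] N)) :
    ∃ S : Finset N, ∀ x : N, ∃ k : ℕ, h ^ k • x ∈ Submodule.span A (S : Set N) := by
  classical
  let B := Localization.Away h
  let f : N →ₗ[A] B ⊗[A] N := TensorProduct.mk A B N 1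
  obtain ⟨T, hT⟩ := hfin.fg_top
  choose g hg using fun y : B ⊗[A] N => IsLocalizedModule.surj (Submonoid.powers h) f y
  refine ⟨T.image (fun y => (g y).1), fun x => ?_⟩
  have hle : Submodule.span B (T : Set (B ⊗[A] N)) ≤
      Submodule.span B (f '' ((T.image (fun y => (g y).1) : Finset N) : Set N)) := by
    refine Submodule.span_le.2 (fun y hy => ?_)
    have h1 : (g y).2 • y = f (g y).1 := hg y
    have hu : IsUnit (algebraMap A B ((g y).2 : A)) :=
      IsLocalization.map_units B (g y).2
    obtain ⟨u, hu'⟩ := hu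
    have h2 : y = (↑u⁻¹ : B) • f (g y).1 := by
      rw [← h1]
      have h3 : ((g y).2 • y : B ⊗[A] N) = (algebraMap A B ((g y).2 : A)) • y := by
        rw [algebraMap_smul]
        rfl
      rw [h3, ← hu', smul_smul, Units.inv_mul, one_smul]
    rw [h2]
    refine Submodule.smul_mem _ _ (Submodule.subset_span ⟨(g y).1, ?_, rfl⟩)
    exact Finset.mem_coe.2 (Finset.mem_image.2 ⟨y, hy, rfl⟩)
  have h1 : f x ∈ Submodule.span B (f '' ((T.image (fun y => (g y).1) : Finset N) : Set N)) :=
    hle (hT ▸ Submodule.mem_top)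
  rw [← Submodule.localized'_span B (Submonoid.powers h) f] at h1
  obtain ⟨n, hn, s, hs⟩ := h1
  rw [IsLocalizedModule.mk'_eq_iff] at hs
  have h2 : f n = f ((s : A) • x) := by
    rw [hs, map_smul]
    rfl
  obtain ⟨c, hc⟩ := IsLocalizedModule.exists_of_eq (S := Submonoid.powers h) h2
  obtain ⟨_, k₂, rfl⟩ := s
  obtain ⟨_, k₁, rfl⟩ := c
  refine ⟨k₁ + k₂, ?_⟩
  have h3 : h ^ (k₁ + k₂) • x = h ^ k₁ • n := by
    rw [pow_add, mul_smul]
    exact hc.symm
  rw [h3]
  exact Submodule.smul_mem _ _ hn

end Mod

section Pred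

/-- the localisation predicate: `M ⊗ A_h` is `m`-pseudo-coherent over `A_h` for all `h ∈ hs` -/
def LocPC (hs : List A) (m : ℤ) (M : Dual.D A) : Prop :=
  ∀ h ∈ hs, DRing.IsPseudoCoherent (Localization.Away h) m
    ((extD A (Localization.Away h)).obj M)

theorem LocPC.of_iso {hs : List A} {m : ℤ} {M M' : Dual.D A} (e : M ≅ M')
    (hM : LocPC hs m M) : LocPC hs m M' := fun h hh =>
  isPseudoCoherent_of_iso ((extD A (Localization.Away h)).mapIso e) (hM h hh)

theorem LocPC.cone {hs : List A} {m : ℤ} (T : Triangle (Dual.D A))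
    (hT : T ∈ distTriang (Dual.D A)) (hK : DRing.IsPerfect A T.obj₁) (hM : LocPC hs m T.obj₂) :
    LocPC hs m T.obj₃ := by
  intro h hh
  have hT' := (extD A (Localization.Away h)).map_distinguished T hT
  exact isPseudoCoherent_obj₃ _ hT' m
    (isPseudoCoherent_of_isPerfect (isPerfect_extD _ hK) (m + 1)) (hM h hh)

/-- the cohomology of the localisation -/
noncomputable def HextEquiv (h : A) (M : Dual.D A) (i : ℤ) :
    (H (Localization.Away h) i).obj ((extD A (Localization.Away h)).obj M) ≃ₗ[Localization.Away h]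
      Localization.Away h ⊗[A] ((H A i).obj M) :=
  (homologyMapDIso (extM (A := A) (B := Localization.Away h)) M i).toLinearEquiv ≪≫ₗ
    extMEquiv (B := Localization.Away h) ((H A i).obj M)

theorem isZero_H_extD_of_ftors (h : A) (M : Dual.D A) (i : ℤ)
    (ht : FTors h ((H A i).obj M)) :
    IsZero ((H (Localization.Away h) i).obj ((extD A (Localization.Away h)).obj M)) := by
  haveI := subsingleton_away_of_ftors h _ ht
  haveI : Subsingleton ((H (Localization.Away h) i).obj ((extD A (Localization.Away h)).obj M)) :=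
    (HextEquiv h M i).toEquiv.subsingleton
  exact ModuleCat.isZero_of_subsingleton _

theorem ftors_of_isZero_H_extD (h : A) (M : Dual.D A) (i : ℤ)
    (hz : IsZero ((H (Localization.Away h) i).obj ((extD A (Localization.Away h)).obj M))) :
    FTors h ((H A i).obj M) := by
  haveI := ModuleCat.subsingleton_of_isZero hz
  exact ftors_of_subsingleton_away h _ ((HextEquiv h M i).symm.toEquiv.subsingleton)

theorem LocPC.exists_bound {hs : List A} {m : ℤ} {M : Dual.D A} (hM : LocPC hs m M) :
    ∃ d : ℕ, ∀ i : ℤ, m + (d : ℤ) ≤ i → ∀ h ∈ hs, FTors h ((H A i).obj M) := by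
  induction hs with
  | nil => exact ⟨0, fun i _ h hh => absurd hh (List.not_mem_nil)⟩
  | cons g l ih =>
    obtain ⟨d₁, hd₁⟩ := ih (fun h hh => hM h (List.mem_cons_of_mem _ hh))
    obtain ⟨b, hb⟩ := exists_isLE_of_isPseudoCoherent (hM g List.mem_cons_self)
    refine ⟨max d₁ (b - m + 1).toNat, fun i hi h hh => ?_⟩
    have hi1 : m + (d₁ : ℤ) ≤ i := by
      have : (d₁ : ℤ) ≤ (max d₁ (b - m + 1).toNat : ℕ) := by exact_mod_cast le_max_left _ _
      omega
    have hi2 : b < i := by
      have h1 : ((b - m + 1).toNat : ℤ) ≤ (max d₁ (b - m + 1).toNat : ℕ) := by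
        exact_mod_cast le_max_right _ _
      have h2 := Int.self_le_toNat (b - m + 1)
      omega
    rcases List.mem_cons.1 hh with rfl | hh'
    · haveI := hb
      exact ftors_of_isZero_H_extD h M i (isZero_of_isLE _ b i hi2)
    · exact hd₁ i hi1 h hh'

theorem LocPC.exists_gens {hs : List A} {m : ℤ} {M : Dual.D A} (hM : LocPC hs m M) (t : ℤ)
    (hmt : m ≤ t) (hvan : ∀ i : ℤ, t < i → ∀ h ∈ hs, FTors h ((H A i).obj M)) :
    ∃ (n : ℕ) (s : Fin n → (H A t).obj M), ∀ h ∈ hs, ∀ x : (H A t).obj M,
      ∃ k : ℕ, h ^ k • x ∈ Submodule.span A (Set.range s) := by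
  classical
  have key : ∃ S : Finset ((H A t).obj M), ∀ h ∈ hs, ∀ x : (H A t).obj M,
      ∃ k : ℕ, h ^ k • x ∈ Submodule.span A (S : Set ((H A t).obj M)) := by
    induction hs with
    | nil => exact ⟨∅, fun h hh => absurd hh (List.not_mem_nil)⟩
    | cons g l ih =>
      obtain ⟨S₁, hS₁⟩ := ih (fun h hh => hM h (List.mem_cons_of_mem _ hh))
        (fun i hi h hh => hvan i hi h (List.mem_cons_of_mem _ hh))
      have hfin : Module.Finite (Localization.Away g)
          ((H (Localization.Away g) t).obj ((extD A (Localization.Away g)).obj M)) :=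
        finite_H_of_isPseudoCoherent _ t (isPseudoCoherent_mono hmt (hM g List.mem_cons_self))
          (fun i hi => isZero_H_extD_of_ftors g M i (hvan i hi g List.mem_cons_self))
      have hfin' : Module.Finite (Localization.Away g)
          (Localization.Away g ⊗[A] ((H A t).obj M)) := Module.Finite.equiv (HextEquiv g M t)
      obtain ⟨S₂, hS₂⟩ := exists_finset_of_finite_away g _ hfin'
      refine ⟨S₁ ∪ S₂, fun h hh x => ?_⟩
      rcases List.mem_cons.1 hh with rfl | hh'
      · obtain ⟨k, hk⟩ := hS₂ x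
        exact ⟨k, Submodule.span_mono (by simp) hk⟩
      · obtain ⟨k, hk⟩ := hS₁ h hh' x
        exact ⟨k, Submodule.span_mono (by simp) hk⟩
  obtain ⟨S, hS⟩ := key
  refine ⟨S.card, fun i => ((S.equivFin).symm i).1, fun h hh x => ?_⟩
  have hr : Set.range (fun i : Fin S.card => ((S.equivFin).symm i).1) = (S : Set _) := by
    ext y
    constructor
    · rintro ⟨i, rfl⟩
      exact ((S.equivFin).symm i).2
    · intro hy
      exact ⟨S.equivFin ⟨y, hy⟩, by simp⟩
  rw [hr]
  exact hS h hh x

/-- **Relative approximation in `D(A)`** for the localisation predicate. -/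
theorem relApprox_of_locPC (fs hs : List A) (m : ℤ) (M : Dual.D A) (hM : LocPC hs m M)
    (htors : ∀ i : ℤ, m - (fs.length : ℤ) + 1 ≤ i → ∀ f ∈ fs, FTors f ((H A i).obj M)) :
    RelApprox fs hs m M := by
  obtain ⟨d, hd⟩ := hM.exists_bound
  exact relApprox_main fs hs m (LocPC hs m) (fun T hT hK hP => LocPC.cone T hT hK hP)
    (fun M' t hmt hP hvan => hP.exists_gens t hmt hvan) d M hM htors hd

end Pred

end Groth.Agent.Lib.Helper2.Kos
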