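import Groth.Agent.Lib.Helper2.Kos.LocFin
import Groth.Agent.Lib.Helper2.Aff.AffModel

/-!
# Pseudo-coherence on a quasi-compact open of an affine scheme, algebraically (helper2)
-/

set_option autoImplicit false
set_option linter.style.haveILetI false
universe u
open CategoryTheory CategoryTheory.Limits CategoryTheory.Pretriangulated DerivedCategory
  AlgebraicGeometry

attribute [local instance] HasDerivedCategory.standard

namespace Groth.Agent.Lib.Helper2.Kos

open Groth.Agent.Lib.Helper18.DR Groth.Agent.Lib.Helper2.TExactIso Groth.Agent.Lib.Helper2.Aff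
  Groth.Agent.Lib.Helper13 Groth.Agent.Lib.Helper13.GoodMap
  Groth.Agent.Lib.Helper2.Aff.AffModel Groth.Agent.Lib.Helper13.PCohTri
  Groth.Agent.Lib.Helper2.Aff.PerfAff

/-- local pseudo-coherence of a restriction -/
theorem lpc_of_restrictD {Y' Y X : Scheme.{u}} (j' : Y' ⟶ Y) (j : Y ⟶ X) [IsOpenImmersion j']
    [IsOpenImmersion j] {m : ℤ} {K : DCoh.D X} (h : LPC m ((DCoh.restrictD j).obj K) j') :
    LPC m K (j' ≫ j) := by
  obtain ⟨E, α, hE, hα⟩ := h
  obtain ⟨c⟩ := PerfTri.nonempty_resD_comp j' j (j' ≫ j) rfl K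
  exact ⟨E, α ≫ c.hom, hE, hα.comp_iso c.hom⟩

theorem lpc_opensRange {Y X : Scheme.{u}} (j : Y ⟶ X) [IsOpenImmersion j] {m : ℤ}
    {K : DCoh.D X} (h : LPC m K j) : LPC m K j.opensRange.ι :=
  LPC.comp j.isoOpensRange.inv j _ j.isoOpensRange_inv_comp.symm h

/-- a basic open neighbourhood inside an open of `Spec A` -/
theorem exists_basicOpen_lift' (A : Type u) [CommRing A] (V : (Spec (CommRingCat.of A)).Opens)
    (x : PrimeSpectrum A) (hxV : x ∈ V) :
    ∃ (g : A), x ∈ PrimeSpectrum.basicOpen g ∧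
      (∀ y : PrimeSpectrum A, y ∈ PrimeSpectrum.basicOpen g → y ∈ V) ∧
      ∃ (l : Spec (CommRingCat.of (Localization.Away g)) ⟶ (V : Scheme.{u}))
        (_ : IsOpenImmersion l), jg A g = l ≫ V.ι := by
  obtain ⟨_, ⟨_, ⟨g, rfl⟩, rfl⟩, hxg, hgV⟩ :=
    PrimeSpectrum.isBasis_basic_opens.exists_subset_of_mem_open hxV V.2
  have hrange : Set.range (jg A g).base ⊆ Set.range V.ι.base := by
    rw [Scheme.Opens.range_ι]
    refine subset_trans (le_of_eq ?_) hgV
    exact PrimeSpectrum.localization_away_comap_range (Localization.Away g) g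
  let l := IsOpenImmersion.lift V.ι (jg A g) hrange
  have hl : l ≫ V.ι = jg A g := IsOpenImmersion.lift_fac _ _ _
  haveI : IsOpenImmersion (l ≫ V.ι) := by rw [hl]; infer_instance
  haveI : IsOpenImmersion l := IsOpenImmersion.of_comp l V.ι
  exact ⟨g, hxg, hgV, l, inferInstance, hl.symm⟩

section Model

variable {X : Scheme.{u}} {A : Type u} [CommRing A] (e : X ⟶ Spec (CommRingCat.of A)) [IsIso e]
  [PreservesFiniteLimits (tilde.functor (CommRingCat.of A))]

/-- pointwise form -/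
theorem exists_basic_locPC (U : X.Opens) (M : Dual.D A) (m : ℤ)
    (hpc : DCoh.IsPseudoCoherentD m ((DCoh.restrictD U.ι).obj ((Tm e).obj M)))
    (x : X) (hx : x ∈ U) :
    ∃ g : A, e.base x ∈ (PrimeSpectrum.basicOpen g : Set (PrimeSpectrum A)) ∧
      (e.base ⁻¹' (PrimeSpectrum.basicOpen g : Set (PrimeSpectrum A)) ⊆ (U : Set X)) ∧
      DRing.IsPseudoCoherent (Localization.Away g) m ((extD A (Localization.Away g)).obj M) := by
  rw [isPC_iff] at hpc
  obtain ⟨V', hxV', hV'⟩ := hpc ⟨x, hx⟩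
  have h1 : LPC m ((Tm e).obj M) (V'.ι ≫ U.ι) := lpc_of_restrictD V'.ι U.ι hV'
  have h2 : LPC m ((DCoh.tildeD (CommRingCat.of A)).obj M) ((V'.ι ≫ U.ι) ≫ e) :=
    lpc_of_restrictD (V'.ι ≫ U.ι) e h1
  have h3 := lpc_opensRange _ h2
  set W := ((V'.ι ≫ U.ι) ≫ e).opensRange with hW
  have hxW : e.base x ∈ W := ⟨⟨⟨x, hx⟩, hxV'⟩, rfl⟩
  obtain ⟨g, hxg, hgW, l, hl, hfac⟩ := exists_basicOpen_lift' A W (e.base x) hxW
  refine ⟨g, hxg, ?_, ?_⟩
  · intro y hy
    obtain ⟨⟨⟨z, hz⟩, hz'⟩, hzy⟩ := hgW (e.base y) hy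
    have : z = y := by
      have hinj : Function.Injective e.base :=
        (TopCat.homeoOfIso (asIso e.base)).injective
      exact hinj hzy
    rw [← this]
    exact hz
  · haveI := Groth.Agent.Lib.Helper14.preservesFiniteLimits_tilde
      (CommRingCat.of (Localization.Away g))
    have h4 : LPC m ((DCoh.tildeD (CommRingCat.of A)).obj M) (jg A g) :=
      LPC.comp l W.ι (jg A g) hfac h3
    let K := DerivedCategory.Q.objPreimage M
    let i : DerivedCategory.Q.obj K ≅ M := DerivedCategory.Q.objObjPreimageIso M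
    have h5 := isPseudoCoherent_loc_of_LPC A g K m
      (LPC.of_iso ((DCoh.tildeD (CommRingCat.of A)).mapIso i.symm) h4)
    exact isPseudoCoherent_of_iso
      ((mapDToDIso extM K).symm ≪≫ (extD A (Localization.Away g)).mapIso i) h5

/-- **pseudo-coherence on a quasi-compact open, algebraically** -/
theorem exists_list_locPC (U : X.Opens) (hU : IsCompact (U : Set X)) (M : Dual.D A) (m : ℤ)
    (hpc : DCoh.IsPseudoCoherentD m ((DCoh.restrictD U.ι).obj ((Tm e).obj M))) :
    ∃ hs : List A, ((U : Set X))ᶜ = e.base ⁻¹' zl {a | a ∈ hs} ∧ LocPC hs m M := by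
  classical
  choose g hg1 hg2 hg3 using fun x : (U : Set X) => exists_basic_locPC e U M m hpc x.1 x.2
  obtain ⟨t, ht⟩ := hU.elim_finite_subcover
    (fun x : (U : Set X) => e.base ⁻¹' (PrimeSpectrum.basicOpen (g x) : Set (PrimeSpectrum A)))
    (fun x => (PrimeSpectrum.basicOpen (g x)).isOpen.preimage e.base.hom.continuous)
    (fun y hy => Set.mem_iUnion.2 ⟨⟨y, hy⟩, hg1 ⟨y, hy⟩⟩)
  refine ⟨t.toList.map g, ?_, ?_⟩
  · ext y
    constructor
    · intro hy
      refine (PrimeSpectrum.mem_zeroLocus (e.base y : PrimeSpectrum A)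
        {a | a ∈ t.toList.map g}).2 ?_
      intro a ha
      obtain ⟨x, -, rfl⟩ := List.mem_map.1 ha
      by_contra hne
      exact hy (hg2 x hne)
    · intro hy hyU
      have hy' := (PrimeSpectrum.mem_zeroLocus (e.base y : PrimeSpectrum A)
        {a | a ∈ t.toList.map g}).1 hy
      obtain ⟨x, hx⟩ := Set.mem_iUnion.1 (ht hyU)
      obtain ⟨hxt, hx'⟩ := Set.mem_iUnion.1 hx
      exact hx' (hy' (List.mem_map.2 ⟨x, Finset.mem_toList.2 hxt, rfl⟩))
  · intro h hh
    obtain ⟨x, -, rfl⟩ := List.mem_map.1 hh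
    exact hg3 x

end Model

end Groth.Agent.Lib.Helper2.Kos
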