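import Groth.Agent.Lib.Helper2.Kos.Orth
import Groth.Agent.Lib.Helper9.PerfKoszul
import Groth.Agent.Lib.Helper18.DRLBC

/-!
# Koszul orthogonality in a range versus truncations of the unit `E ⟶ Rj_* j^* E` (helper2)
-/

set_option autoImplicit false
set_option linter.style.haveILetI false
universe u
open CategoryTheory CategoryTheory.Limits CategoryTheory.Pretriangulated DerivedCategory
  AlgebraicGeometry

attribute [local instance] HasDerivedCategory.standard

namespace Groth.Agent.Lib.Helper2.Kos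

open Groth.Agent.Lib.Helper18.DR Groth.Agent.Lib.Helper2.TExactIso Groth.Agent.Lib.Helper2.Aff
  Groth.Agent.Lib.Helper2.Stk Groth.Agent.Lib.Helper13

variable {A : Type u} [CommRing A] [PreservesFiniteLimits (tilde.functor (CommRingCat.of A))]
  (fs : List A) (U : (Spec (CommRingCat.of A)).Opens)
  (hUc : ((U : Set (Spec (CommRingCat.of A))))ᶜ =
    (PrimeSpectrum.zeroLocus {a | a ∈ fs} : Set (PrimeSpectrum A)))
  [PreservesFiniteLimits (Scheme.Modules.restrictFunctor U.ι)]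
  [DCoh.HasRpush U.ι]
  (adj : DCoh.restrictD U.ι ⊣ DCoh.Rpush U.ι)

set_option quotPrecheck false in
local notation "KK" =>
  (DCoh.tildeD (CommRingCat.of A)).obj (DerivedCategory.Q.obj (Koszul.koszul A fs))
set_option quotPrecheck false in
local notation "GF" E => (DCoh.Rpush U.ι).obj ((DCoh.restrictD U.ι).obj E)

include hUc in
theorem isCompact_of_compl_eq : IsCompact (U : Set (Spec (CommRingCat.of A))) := by
  have h : (U : Set (Spec (CommRingCat.of A))) =
      ((PrimeSpectrum.zeroLocus {a | a ∈ fs} : Set (PrimeSpectrum A)))ᶜ :=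
    (compl_compl (U : Set (Spec (CommRingCat.of A)))).symm.trans (congrArg compl hUc)
  rw [h]
  exact (PrimeSpectrum.isCompact_isOpen_iff.mpr ⟨(List.finite_toSet fs).toFinset, by simp⟩).1

include hUc in
theorem isZero_restrictD_shift_koszul' (n : ℤ) :
    IsZero ((DCoh.restrictD U.ι).obj (KK⟦n⟧)) := by
  have h0 := isZero_restrictD_tildeD_of_isKoszul (isKoszul_koszul fs) U hUc.ge
  exact IsZero.of_iso ((shiftFunctor _ n).map_isZero h0)
    (((DCoh.restrictD U.ι).commShiftIso n).app _)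

include adj in
/-- objects vanishing on `U` admit no nonzero maps to `Rj_* j^* E` -/
theorem hom_GF_eq_zero₀ (E X' : DCoh.D (Spec (CommRingCat.of A)))
    (hX : IsZero ((DCoh.restrictD U.ι).obj X')) (φ : X' ⟶ (GF E)) : φ = 0 := by
  apply (adj.homEquiv _ _).symm.injective
  exact hX.eq_of_src _ _

include adj in
/-- objects vanishing on `U` admit no nonzero maps to shifts of `Rj_* j^* E` -/
theorem hom_GF_eq_zero (E X' : DCoh.D (Spec (CommRingCat.of A)))
    (hX : IsZero ((DCoh.restrictD U.ι).obj X')) (k : ℤ) (φ : X' ⟶ (GF E)⟦k⟧) : φ = 0 := by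
  refine hom_shift_eq_zero' _ _ k (fun ψ => ?_) φ
  have hz : IsZero ((DCoh.restrictD U.ι).obj (X'⟦-k⟧)) :=
    IsZero.of_iso ((shiftFunctor _ (-k)).map_isZero hX)
      (((DCoh.restrictD U.ι).commShiftIso (-k)).app _)
  exact hom_GF_eq_zero₀ U adj E _ hz ψ

include adj hUc in
theorem exists_fibre (E : DCoh.D (Spec (CommRingCat.of A))) (hE : DCoh.IsQCohD E) :
    ∃ (N : DCoh.D (Spec (CommRingCat.of A))) (f : N ⟶ E) (h : (GF E) ⟶ N⟦(1 : ℤ)⟧),
      Triangle.mk f (adj.unit.app E) h ∈ distTriang _ ∧ DCoh.IsQCohD N ∧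
        IsZero ((DCoh.restrictD U.ι).obj N) := by
  obtain ⟨N, f, h, hT⟩ := distinguished_cocone_triangle₁ (adj.unit.app E)
  haveI : CompactSpace ↥(U : Scheme.{u}) :=
    isCompact_iff_compactSpace.1 (isCompact_of_compl_eq fs U hUc)
  haveI : QuasiCompact U.ι := quasiCompact_of_compactSpace U.ι
  have hqR : DCoh.IsQCohD (GF E) := Qcqs.isQCohD_Rpush U.ι _ (isQCohD_restrict U.ι E hE)
  refine ⟨N, f, h, hT, Qcqs.isQCohD_obj₁ _ hT hE hqR, ?_⟩
  haveI := OpenFF.isIso_counit U.ι adj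
  have h1 := adj.left_triangle_components E
  haveI : IsIso ((DCoh.restrictD U.ι).map (adj.unit.app E) ≫
      adj.counit.app ((DCoh.restrictD U.ι).obj E)) := by rw [h1]; exact IsIso.id _
  haveI : IsIso ((DCoh.restrictD U.ι).map (adj.unit.app E)) :=
    IsIso.of_isIso_comp_right _ (adj.counit.app ((DCoh.restrictD U.ι).obj E))
  exact (Triangle.isZero₁_iff_isIso₂ _ ((DCoh.restrictD U.ι).map_distinguished _ hT)).2
    (inferInstanceAs (IsIso ((DCoh.restrictD U.ι).map (adj.unit.app E))))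

include adj hUc in
/-- orthogonality of `E` to shifted Koszul complexes in a range of degrees kills the cohomology of
the fibre `N` of the unit in that range -/
theorem isZero_HD_fibre (E : DCoh.D (Spec (CommRingCat.of A)))
    {N : DCoh.D (Spec (CommRingCat.of A))} (f : N ⟶ E) (h : (GF E) ⟶ N⟦(1 : ℤ)⟧)
    (hT : Triangle.mk f (adj.unit.app E) h ∈ distTriang _) (hqN : DCoh.IsQCohD N)
    (hzN : IsZero ((DCoh.restrictD U.ι).obj N)) (S : Set ℤ)
    (hS : ∀ n ∈ S, ∀ φ : KK⟦-n⟧ ⟶ E, φ = 0) : ∀ n ∈ S, IsZero (DCoh.HD N n) := by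
  have hN0 : ∀ n ∈ S, ∀ φ : KK⟦-n⟧ ⟶ N, φ = 0 := by
    intro n hn φ
    have h0 : φ ≫ (Triangle.mk f (adj.unit.app E) h).invRotate.mor₂ = 0 := hS n hn _
    obtain ⟨g, hg⟩ := Triangle.coyoneda_exact₂ _ (inv_rot_of_distTriang _ hT) φ h0
    have hg0 : g = 0 :=
      hom_GF_eq_zero U adj E _ (isZero_restrictD_shift_koszul' fs U hUc (-n)) (-1) g
    rw [hg, hg0]
    exact zero_comp
  obtain ⟨hfull, hfaith, hess⟩ := tildeD_fullyFaithful_essImage (CommRingCat.of A)
  obtain ⟨N₀, ⟨ε⟩⟩ := (hess _).1 hqN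
  have hsupp : ∀ i : ℤ, CohB1.support (DCoh.HD N i) ⊆
      (PrimeSpectrum.zeroLocus {a | a ∈ fs} : Set (PrimeSpectrum A)) := by
    intro i
    obtain ⟨e⟩ := OpenEquivSupp.nonempty_HD_restrictD_iso U.ι N i
    have hz' := ((DerivedCategory.homologyFunctor _ i).map_isZero hzN).of_iso e.symm
    have := (QCohLoc.isZero_restrict_iff U _).1 hz'
    rwa [hUc] at this
  have key := hom_eq_zero_of_isKoszul' (A := A) (l := fs) (N := N₀) S
    (fun f hf j => tors_unit f N₀ j (ftors_H_of_support N₀ _ ε j {a | a ∈ fs} f hf (hsupp j)))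
    (isKoszul_koszul fs) (fun n hn ψ => by
      refine hom_shift_eq_zero' _ _ n (fun φ₀ => ?_) ψ
      apply (DCoh.tildeD (CommRingCat.of A)).map_injective
      rw [Functor.map_zero]
      have := hN0 n hn (((DCoh.tildeD (CommRingCat.of A)).commShiftIso (-n)).inv.app _ ≫
        (DCoh.tildeD (CommRingCat.of A)).map φ₀ ≫ ε.hom)
      rw [← cancel_epi (((DCoh.tildeD (CommRingCat.of A)).commShiftIso (-n)).inv.app _),
        ← cancel_mono ε.hom, Category.assoc, this, comp_zero, zero_comp])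
  intro n hn
  have hz := isZero_H_of_hom_unit_eq_zero N₀ n (key n hn)
  exact ((tilde.functor (CommRingCat.of A)).map_isZero hz).of_iso
    ((DerivedCategory.homologyFunctor _ n).mapIso ε.symm ≪≫
      mapDerivedCategoryHomologyIso (tilde.functor (CommRingCat.of A)) N₀ n)

/-- maps from high shifts of the Koszul complex into objects of `D_QCoh^{≤ b}` vanish -/
theorem hom_koszul_shift_eq_zero_of_isLE (L : DCoh.D (Spec (CommRingCat.of A)))
    (hL : DCoh.IsQCohD L) (b : ℤ) (hb : L.IsLE b) (n : ℤ) (hn : b + fs.length < n)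
    (χ : KK⟦-n⟧ ⟶ L) : χ = 0 := by
  obtain ⟨hfull, hfaith, hess⟩ := tildeD_fullyFaithful_essImage (CommRingCat.of A)
  obtain ⟨L₀, ⟨ε⟩⟩ := (hess _).1 hL
  have hL₀ : ∀ i : ℤ, b < i → IsZero ((H A i).obj L₀) := by
    intro i hi
    apply hrefl (CommRingCat.of A) _ trivial
    exact (DerivedCategory.isZero_of_isLE L b i hi).of_iso
      ((mapDerivedCategoryHomologyIso (tilde.functor (CommRingCat.of A)) L₀ i).symm ≪≫
        (DerivedCategory.homologyFunctor _ i).mapIso ε)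
  have h1 : ∀ φ₀ : (Q.obj (Koszul.koszul A fs))⟦-n⟧ ⟶ L₀, φ₀ = 0 := by
    intro φ₀
    refine HomVan.hom_shift_eq_zero _ _ n (fun ψ => ?_) φ₀
    refine hom_eq_zero_dev (A := A) (isKoszul_koszul fs) (L₀⟦n⟧) (fun j hj ξ => ?_) ψ
    apply hom_unit_eq_zero
    refine (hL₀ (n + (-(j : ℤ) + 0)) (by omega)).of_iso ?_
    exact homologyShiftIso (L₀⟦n⟧) (-(j : ℤ)) 0 ≪≫ homologyShiftIso L₀ n (-(j : ℤ) + 0)
  obtain ⟨φ₀, hφ₀⟩ := (DCoh.tildeD (CommRingCat.of A)).map_surjective
    (((DCoh.tildeD (CommRingCat.of A)).commShiftIso (-n)).hom.app _ ≫ χ ≫ ε.inv)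
  rw [h1 φ₀, Functor.map_zero] at hφ₀
  rw [← cancel_epi (((DCoh.tildeD (CommRingCat.of A)).commShiftIso (-n)).hom.app _),
    ← cancel_mono ε.inv, Category.assoc, ← hφ₀, comp_zero, zero_comp]

theorem isLE_koszul_shift (n : ℤ) : (KK⟦-n⟧).IsLE n := by
  haveI : (Q.obj (Koszul.koszul A fs)).IsLE 0 :=
    isLE_toD_of_vanishesAbove (Koszul.koszul A fs) 0
      (fun i hi => Groth.Agent.Lib.Helper9.PCM.koszul_vanishesOutside fs i (Or.inr hi))
  haveI : (KK).IsLE 0 := Qcqs.isLE_mapDerivedCategory _ _ 0 inferInstance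
  exact TStructure.t.isLE_shift KK 0 (-n) n (by omega)

include adj hUc in
theorem isIso_truncGE_unit (E : DCoh.D (Spec (CommRingCat.of A))) (hE : DCoh.IsQCohD E) (a : ℤ)
    (hyp : ∀ n : ℤ, a ≤ n → ∀ φ : KK⟦-n⟧ ⟶ E, φ = 0) :
    IsIso ((TStructure.t.truncGE a).map (adj.unit.app E)) := by
  obtain ⟨N, f, h, hT, hqN, hzN⟩ := exists_fibre fs U hUc adj E hE
  have hz := isZero_HD_fibre fs U hUc adj E f h hT hqN hzN {n | a ≤ n} hyp
  have hLE : N.IsLE (a - 1) := by
    rw [DerivedCategory.isLE_iff]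
    intro i hi
    exact hz i (by show a ≤ i; omega)
  exact TStructure.t.isIso₂_truncGE_map_of_isLE _ hT (a - 1) a (by omega) hLE

include adj hUc in
theorem isIso_truncLE_unit (E : DCoh.D (Spec (CommRingCat.of A))) (hE : DCoh.IsQCohD E) (a : ℤ)
    (hyp : ∀ n : ℤ, n ≤ a → ∀ φ : KK⟦-n⟧ ⟶ E, φ = 0) :
    IsIso ((TStructure.t.truncLE (a - 1)).map (adj.unit.app E)) := by
  obtain ⟨N, f, h, hT, hqN, hzN⟩ := exists_fibre fs U hUc adj E hE
  have hz := isZero_HD_fibre fs U hUc adj E f h hT hqN hzN {n | n ≤ a} hyp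
  haveI hGE : N.IsGE (a + 1) := by
    rw [DerivedCategory.isGE_iff]
    intro i hi
    exact hz i (by show i ≤ a; omega)
  have hGE' : (N⟦(1 : ℤ)⟧).IsGE (a - 1 + 1) :=
    TStructure.t.isGE_shift N (a + 1) 1 (a - 1 + 1) (by omega)
  exact TStructure.t.isIso₁_truncLT_map_of_isGE _ (rot_of_distTriang _ hT) (a - 1 + 1) hGE'

include adj hUc in
theorem hom_eq_zero_of_isIso_truncGE (E : DCoh.D (Spec (CommRingCat.of A)))
    (hE : DCoh.IsQCohD E) (a : ℤ)
    (hiso : IsIso ((TStructure.t.truncGE a).map (adj.unit.app E))) (n : ℤ)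
    (hn : a + (fs.length : ℤ) ≤ n) (φ : KK⟦-n⟧ ⟶ E) : φ = 0 := by
  have h1 : φ ≫ adj.unit.app E = 0 :=
    hom_GF_eq_zero₀ U adj E _ (isZero_restrictD_shift_koszul' fs U hUc (-n)) _
  have nat : adj.unit.app E ≫ (TStructure.t.truncGEπ a).app (GF E) =
      (TStructure.t.truncGEπ a).app E ≫ (TStructure.t.truncGE a).map (adj.unit.app E) :=
    (TStructure.t.truncGEπ a).naturality (adj.unit.app E)
  have h2 : φ ≫ (TStructure.t.truncGEπ a).app E = 0 := by
    rw [← cancel_mono ((TStructure.t.truncGE a).map (adj.unit.app E)), Category.assoc, ← nat,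
      zero_comp, ← Category.assoc, h1, zero_comp]
  obtain ⟨χ, hχ⟩ := Triangle.coyoneda_exact₂ _ (TStructure.t.triangleLTGE_distinguished a E) φ h2
  have hχ0 : χ = 0 := hom_koszul_shift_eq_zero_of_isLE fs ((TStructure.t.truncLT a).obj E)
    (HomVan.isQCohD_truncLT E hE a) (a - 1) inferInstance n (by omega) χ
  rw [hχ, hχ0]
  exact zero_comp

include adj hUc in
theorem hom_eq_zero_of_isIso_truncLE (E : DCoh.D (Spec (CommRingCat.of A)))
    (a : ℤ) (hiso : IsIso ((TStructure.t.truncLE (a - 1)).map (adj.unit.app E))) (n : ℤ)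
    (hn : n ≤ a - 1) (φ : KK⟦-n⟧ ⟶ E) : φ = 0 := by
  haveI := isLE_koszul_shift fs n
  haveI : (KK⟦-n⟧).IsLE (a - 1) := TStructure.t.isLE_of_le _ n (a - 1) hn
  have hφ' := TStructure.t.liftTruncLE_ι φ (a - 1)
  have h1 : φ ≫ adj.unit.app E = 0 :=
    hom_GF_eq_zero₀ U adj E _ (isZero_restrictD_shift_koszul' fs U hUc (-n)) _
  have nat : (TStructure.t.truncLE (a - 1)).map (adj.unit.app E) ≫
      (TStructure.t.truncLEι (a - 1)).app (GF E) =
      (TStructure.t.truncLEι (a - 1)).app E ≫ adj.unit.app E :=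
    (TStructure.t.truncLEι (a - 1)).naturality (adj.unit.app E)
  have h2 : TStructure.t.liftTruncLE φ (a - 1) ≫
      (TStructure.t.truncLE (a - 1)).map (adj.unit.app E) = 0 := by
    have key : (TStructure.t.liftTruncLE φ (a - 1) ≫
        (TStructure.t.truncLE (a - 1)).map (adj.unit.app E)) ≫
          (TStructure.t.truncLEι (a - 1)).app (GF E) =
        (0 : KK⟦-n⟧ ⟶ (TStructure.t.truncLE (a - 1)).obj (GF E)) ≫
          (TStructure.t.truncLEι (a - 1)).app (GF E) := by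
      rw [Category.assoc, nat, zero_comp, ← Category.assoc, hφ', h1]
    exact TStructure.t.to_truncLE_obj_ext key
  have h3 : TStructure.t.liftTruncLE φ (a - 1) = 0 := by
    rw [← cancel_mono ((TStructure.t.truncLE (a - 1)).map (adj.unit.app E)), h2, zero_comp]
  rw [← hφ', h3, zero_comp]

end Groth.Agent.Lib.Helper2.Kos
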