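import Groth.Agent.Lib.Helper2.Kos.AlgApprox

/-!
# Relative approximation by perfect complexes in `D(A)` (helper2)

Abstract form of Stacks 36.13.2/36.14.3: an object `M` of `D(A)` which is `m`-pseudo-coherent
"over the open `U = ⋃ D(h)`" (encoded by an abstract predicate `Pr`) receives a map from a perfect
complex (with `fs`-torsion cohomology) whose cone has `hs`-torsion cohomology in degrees `≥ m`.
-/

set_option autoImplicit false
set_option linter.style.haveILetI false
universe u
open CategoryTheory CategoryTheory.Limits CategoryTheory.Pretriangulated DerivedCategory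
open ZeroObject

attribute [local instance] HasDerivedCategory.standard

namespace Groth.Agent.Lib.Helper2.Kos

open Groth.Agent.Lib.Helper18.DR Groth.Agent.Lib.Helper18.DR.HomBC
  Groth.Agent.Lib.Helper2.TExactIso Groth.Agent.Lib.Helper13.GoodMap

variable {A : Type u} [CommRing A]

/-- relative approximation data: a map `ρ : M ⟶ C` with perfect `fs`-torsion cone, such that
`C` has `hs`-torsion cohomology in degrees `≥ m` -/
def RelApprox (fs hs : List A) (m : ℤ) (M : Dual.D A) : Prop :=
  ∃ (C Z : Dual.D A) (ρ : M ⟶ C) (v : C ⟶ Z) (w : Z ⟶ M⟦(1 : ℤ)⟧),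
    Triangle.mk ρ v w ∈ distTriang (Dual.D A) ∧ DRing.IsPerfect A Z ∧
    (∀ (i : ℤ), ∀ f ∈ fs, FTors f ((H A i).obj Z)) ∧
    (∀ i : ℤ, m ≤ i → ∀ h ∈ hs, FTors h ((H A i).obj C))

theorem relApprox_refl (fs hs : List A) (m : ℤ) (M : Dual.D A)
    (hM : ∀ i : ℤ, m ≤ i → ∀ h ∈ hs, FTors h ((H A i).obj M)) : RelApprox fs hs m M :=
  ⟨M, 0, 𝟙 M, 0, 0, contractible_distinguished M, isPerfect_of_isZero _ (isZero_zero _),
    fun i _ _ => ftors_of_isZero ((H A i).map_isZero (isZero_zero _)), hM⟩

/-- composing with a map whose fibre is perfect and torsion -/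
theorem relApprox_of_cone (fs hs : List A) (m : ℤ) {K M C₁ : Dual.D A} (ψ : K ⟶ M)
    (π : M ⟶ C₁) (w₁ : C₁ ⟶ K⟦(1 : ℤ)⟧) (hT : Triangle.mk ψ π w₁ ∈ distTriang (Dual.D A))
    (hK : DRing.IsPerfect A K) (hKt : ∀ (i : ℤ), ∀ f ∈ fs, FTors f ((H A i).obj K))
    (hC : RelApprox fs hs m C₁) : RelApprox fs hs m M := by
  obtain ⟨C', Z', ρ', v', w', hT', hZ', hZ't, hC'⟩ := hC
  obtain ⟨Z, v, w, hT₁₃⟩ := distinguished_cocone_triangle (π ≫ ρ')
  have h₁₂ : Triangle.mk π w₁ (-ψ⟦(1 : ℤ)⟧') ∈ distTriang (Dual.D A) := rot_of_distTriang _ hT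
  have oct := Triangulated.someOctahedron rfl h₁₂ hT' hT₁₃
  have hmem := oct.mem
  have hK1 : DRing.IsPerfect A (K⟦(1 : ℤ)⟧) := isPerfect_shift hK 1
  refine ⟨C', Z, π ≫ ρ', v, w, hT₁₃, ?_, ?_, hC'⟩
  · exact (isPerfect_two_of_three _ hmem).2.1 hK1 hZ'
  · intro i f hf
    refine ftors_of_exact _ (HomologySequence.exact₂ _ hmem i) ?_ (hZ't i f hf)
    exact ftors_shift K 1 i (hKt _ f hf)

/-- **Relative approximation, abstract form.** -/
theorem relApprox_main (fs hs : List A) (m : ℤ) (Pr : Dual.D A → Prop)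
    (hcone : ∀ T : Triangle (Dual.D A), T ∈ distTriang (Dual.D A) →
      DRing.IsPerfect A T.obj₁ → Pr T.obj₂ → Pr T.obj₃)
    (hfin : ∀ (M : Dual.D A) (t : ℤ), m ≤ t → Pr M →
      (∀ i : ℤ, t < i → ∀ h ∈ hs, FTors h ((H A i).obj M)) →
      ∃ (n : ℕ) (s : Fin n → (H A t).obj M), ∀ h ∈ hs, ∀ x : (H A t).obj M,
        ∃ k : ℕ, h ^ k • x ∈ Submodule.span A (Set.range s)) :
    ∀ (d : ℕ) (M : Dual.D A), Pr M →
      (∀ i : ℤ, m - (fs.length : ℤ) + 1 ≤ i → ∀ f ∈ fs, FTors f ((H A i).obj M)) →
      (∀ i : ℤ, m + (d : ℤ) ≤ i → ∀ h ∈ hs, FTors h ((H A i).obj M)) →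
      RelApprox fs hs m M := by
  intro d
  induction d with
  | zero =>
    intro M _ _ hvan
    exact relApprox_refl fs hs m M (fun i hi => hvan i (by simp; omega))
  | succ d ih =>
    have inner : ∀ (n : ℕ) (M : Dual.D A), Pr M →
        (∀ i : ℤ, m - (fs.length : ℤ) + 1 ≤ i → ∀ f ∈ fs, FTors f ((H A i).obj M)) →
        (∀ i : ℤ, m + (d : ℤ) < i → ∀ h ∈ hs, FTors h ((H A i).obj M)) →
        (∃ s : Fin n → (H A (m + (d : ℤ))).obj M, ∀ h ∈ hs, ∀ x : (H A (m + (d : ℤ))).obj M,
          ∃ k : ℕ, h ^ k • x ∈ Submodule.span A (Set.range s)) →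
        RelApprox fs hs m M := by
      intro n
      induction n with
      | zero =>
        rintro M hP htors hvan ⟨s, hs'⟩
        refine ih M hP htors (fun i hi h hh => ?_)
        rcases hi.eq_or_lt with rfl | hi'
        · intro x
          obtain ⟨k, hk⟩ := hs' h hh x
          refine ⟨k, ?_⟩
          have : Set.range s = ∅ := Set.range_eq_empty s
          rw [this, Submodule.span_empty] at hk
          exact (Submodule.mem_bot A).1 hk
        · exact hvan i hi' h hh
      | succ n ihn =>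
        rintro M hP htors hvan ⟨s, hs'⟩
        obtain ⟨K, ψ, hKp, hKt, hKle, y, hy⟩ :=
          approx_kill fs m (m + (d : ℤ)) (by omega) M htors (s 0)
        obtain ⟨C, π, w, hT⟩ := distinguished_cocone_triangle ψ
        refine relApprox_of_cone fs hs m ψ π w hT hKp hKt (ihn C ?_ ?_ ?_ ?_)
        · exact hcone _ hT hKp hP
        · intro i hi f hf
          exact ftors_of_exact _ (HomologySequence.exact₃ _ hT i (i + 1) rfl)
            (htors i hi f hf) (hKt (i + 1) f hf)
        · intro i hi h hh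
          exact ftors_of_exact _ (HomologySequence.exact₃ _ hT i (i + 1) rfl)
            (hvan i hi h hh) (ftors_of_isZero (hKle (i + 1) (by omega)))
        · have hepi : Epi ((H A (m + (d : ℤ))).map π) :=
            (HomologySequence.epi_homologyMap_mor₂_iff _ hT (m + (d : ℤ)) (m + (d : ℤ) + 1) rfl).2
              ((hKle (m + (d : ℤ) + 1) (by omega)).eq_of_tgt _ _)
          have hsurj := (ModuleCat.epi_iff_surjective _).1 hepi
          refine ⟨fun i => ((H A (m + (d : ℤ))).map π).hom (s i.succ), ?_⟩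
          have h0 : ((H A (m + (d : ℤ))).map π).hom (s 0) = 0 := by
            rw [← hy]
            have hz : (H A (m + (d : ℤ))).map ψ ≫ (H A (m + (d : ℤ))).map π = 0 := by
              have hz0 : ψ ≫ π = 0 := comp_distTriang_mor_zero₁₂ _ hT
              rw [← Functor.map_comp, hz0, Functor.map_zero]
            exact congrArg (fun φ : (H A (m + (d : ℤ))).obj K ⟶ (H A (m + (d : ℤ))).obj C =>
              φ.hom y) hz
          have hle : Submodule.map ((H A (m + (d : ℤ))).map π).hom
              (Submodule.span A (Set.range s)) ≤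
              Submodule.span A (Set.range fun i : Fin n =>
                ((H A (m + (d : ℤ))).map π).hom (s i.succ)) := by
            rw [Submodule.map_span]
            refine Submodule.span_le.2 ?_
            rintro _ ⟨_, ⟨j, rfl⟩, rfl⟩
            refine Fin.cases ?_ (fun i => ?_) j
            · rw [h0]
              exact Submodule.zero_mem _
            · exact Submodule.subset_span ⟨i, rfl⟩
          intro h hh z
          obtain ⟨x, rfl⟩ := hsurj z
          obtain ⟨k, hk⟩ := hs' h hh x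
          refine ⟨k, ?_⟩
          rw [← map_smul]
          exact hle (Submodule.mem_map_of_mem hk)
    intro M hP htors hvan
    have hvan' : ∀ i : ℤ, m + (d : ℤ) < i → ∀ h ∈ hs, FTors h ((H A i).obj M) :=
      fun i hi => hvan i (by push_cast; omega)
    obtain ⟨n, s, hs'⟩ := hfin M (m + (d : ℤ)) (by omega) hP hvan'
    exact inner n M hP htors hvan' ⟨s, hs'⟩

end Groth.Agent.Lib.Helper2.Kos
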