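import Groth.Agent.Lib.Helper2.Kos.LocPC
import Groth.Agent.Lib.Helper2.Kos.Lift
import Groth.Agent.Lib.Helper13.PerfTor

/-!
# Perfect complexes on a quasi-compact open of an affine scheme are summands of restrictions
(helper2)

Stacks 36.13.3 with supports: a perfect object `F` of `D(O_U)`, `U` a quasi-compact open of an
affine scheme `X`, with cohomology supported on `T ∩ U` (`T = V(fs)`), is a direct summand of
`P|_U` for a perfect `P` on `X` with cohomology supported on `T`.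
-/

set_option autoImplicit false
set_option linter.style.haveILetI false
universe u
open CategoryTheory CategoryTheory.Limits CategoryTheory.Pretriangulated DerivedCategory
  AlgebraicGeometry

attribute [local instance] HasDerivedCategory.standard

namespace Groth.Agent.Lib.Helper2.Kos

open Groth.Agent.Lib.Helper18.DR Groth.Agent.Lib.Helper2.TExactIso Groth.Agent.Lib.Helper2.Aff
  Groth.Agent.Lib.Helper2.Stk Groth.Agent.Lib.Helper13 Groth.Agent.Lib.Helper2.Aff.AffModel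
  AlgebraicGeometry.Scheme.Modules

attribute [local instance] Groth.Agent.Lib.Helper2.Stk.hasRpush

section Model

variable {X : Scheme.{u}} {A : Type u} [CommRing A] (e : X ⟶ Spec (CommRingCat.of A)) [IsIso e]
  [PreservesFiniteLimits (tilde.functor (CommRingCat.of A))]

/-- supports of a derived direct image from an open -/
theorem support_HD_Rpush (U : X.Opens) (T : Set X) (hT : IsClosed T)
    (F : DCoh.D (U : Scheme.{u}))
    (hFs : ∀ i : ℤ, CohB1.support (DCoh.HD F i) ⊆ {v : ↥(U : Scheme.{u}) | U.ι.base v ∈ T})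
    (i : ℤ) : CohB1.support (DCoh.HD ((DCoh.Rpush U.ι).obj F) i) ⊆ T := by
  let V : X.Opens := ⟨Tᶜ, hT.isOpen_compl⟩
  have h1 := OpenEquivSupp.isZero_restrict_HD_Rpush U.ι V F (fun n => by
    rw [QCohLoc.isZero_restrict_iff]
    intro v hv hv'
    exact hv' (hFs n hv)) i
  rw [QCohLoc.isZero_restrict_iff] at h1
  intro x hx
  by_contra hxT
  exact h1 hx hxT

theorem summand (U : X.Opens) (hU : IsCompact (U : Set X)) [QuasiSeparatedSpace X]
    (fs : List A) (F : DCoh.D (U : Scheme.{u})) (hF : DCoh.IsPerfect F)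
    (hFs : ∀ i : ℤ, CohB1.support (DCoh.HD F i) ⊆
      {v : ↥(U : Scheme.{u}) | U.ι.base v ∈ e.base ⁻¹' zl {a | a ∈ fs}}) :
    ∃ (P : DCoh.D X) (i : F ⟶ (DCoh.restrictD U.ι).obj P) (p : (DCoh.restrictD U.ι).obj P ⟶ F),
      DCoh.IsPerfect P ∧
      (∀ k : ℤ, CohB1.support (DCoh.HD P k) ⊆ e.base ⁻¹' zl {a | a ∈ fs}) ∧ i ≫ p = 𝟙 F := by
  haveI : CompactSpace ↥(U : Scheme.{u}) := isCompact_iff_compactSpace.1 hU
  haveI : QuasiCompact U.ι := quasiCompact_of_compactSpace U.ι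
  haveI : QuasiSeparatedSpace ↥(U : Scheme.{u}) :=
    U.ι.isOpenEmbedding.quasiSeparatedSpace
  let adj := Corefl.adjOpen U.ι
  haveI := OpenFF.isIso_counit U.ι adj
  have hqF : DCoh.IsQCohD F := HomVan.isQCohD_of_isPerfect F hF
  have hqE : DCoh.IsQCohD ((DCoh.Rpush U.ι).obj F) := Qcqs.isQCohD_Rpush U.ι F hqF
  let ε : (DCoh.restrictD U.ι).obj ((DCoh.Rpush U.ι).obj F) ≅ F := asIso (adj.counit.app F)
  obtain ⟨-, -, hess⟩ := Tm_full_faithful_essImage e
  obtain ⟨M, ⟨εM⟩⟩ := (hess _).1 hqE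
  obtain ⟨n, hn⟩ := HomVan.exists_range_hom_eq_zero F hF
  have hT : IsClosed (e.base ⁻¹' zl {a | a ∈ fs}) :=
    (PrimeSpectrum.isClosed_zeroLocus _).preimage e.base.hom.continuous
  have hEs := support_HD_Rpush U _ hT F hFs
  have htors : ∀ i : ℤ, ∀ f ∈ fs, FTors f ((H A i).obj M) := fun i f hf =>
    ftors_of_support_Tm e M εM i {a | a ∈ fs} f hf (hEs i)
  let εU : (DCoh.restrictD U.ι).obj ((Tm e).obj M) ≅ F := (DCoh.restrictD U.ι).mapIso εM ≪≫ ε
  have hpc : DCoh.IsPseudoCoherentD (-(n : ℤ)) ((DCoh.restrictD U.ι).obj ((Tm e).obj M)) :=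
    PCohSum.isPC_of_iso εU.symm (PerfTor.isPC_of_isPerfect F hF _)
  obtain ⟨hs, hUc, hLoc⟩ := exists_list_locPC e U hU M (-(n : ℤ)) hpc
  obtain ⟨C, Z, ρ, v, w, hTri, hZ, hZt, hC⟩ :=
    relApprox_of_locPC fs hs (-(n : ℤ)) M hLoc (fun i _ f hf => htors i f hf)
  have hTri' := inv_rot_of_distTriang _ hTri
  have hTm := (Tm e).map_distinguished _ hTri'
  have hRes := (DCoh.restrictD U.ι).map_distinguished _ hTm
  -- the cone vanishes on `U` in degrees `≥ -n`
  have hCU : ∀ i : ℤ, -(n : ℤ) ≤ i →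
      IsZero (DCoh.HD ((DCoh.restrictD U.ι).obj ((Tm e).obj C)) i) := by
    intro i hi
    obtain ⟨ι⟩ := OpenEquivSupp.nonempty_HD_restrictD_iso U.ι ((Tm e).obj C) i
    refine IsZero.of_iso ((QCohLoc.isZero_restrict_iff U _).2 ?_) ι
    rw [hUc]
    exact support_Tm_of_ftors e C (Iso.refl _) i {a | a ∈ hs} (fun h hh => hC i hi h hh)
  have hqC : DCoh.IsQCohD ((DCoh.restrictD U.ι).obj ((Tm e).obj C)) :=
    isQCohD_restrict U.ι _ ((hess _).2 ⟨C, ⟨Iso.refl _⟩⟩)
  have hvan : εU.inv ≫ (DCoh.restrictD U.ι).map ((Tm e).map ρ) = 0 :=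
    hn _ hqC (fun i hi _ => hCU i hi) _
  obtain ⟨i, hi⟩ : ∃ i : F ⟶ (DCoh.restrictD U.ι).obj ((Tm e).obj (Z⟦(-1 : ℤ)⟧)),
      εU.inv = i ≫ (DCoh.restrictD U.ι).map
        ((Tm e).map (Triangle.invRotate (Triangle.mk ρ v w)).mor₁) :=
    Triangle.coyoneda_exact₂ _ hRes εU.inv hvan
  refine ⟨(Tm e).obj (Z⟦(-1 : ℤ)⟧), i,
    (DCoh.restrictD U.ι).map ((Tm e).map (Triangle.invRotate (Triangle.mk ρ v w)).mor₁) ≫ εU.hom,
    (isPerfect_Tm_iff e _).2 (isPerfect_shift hZ (-1)), fun k => ?_, ?_⟩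
  · exact support_Tm_of_ftors e _ (Iso.refl _) k {a | a ∈ fs}
      (fun f hf => ftors_shift Z (-1) k (hZt _ f hf))
  · rw [← Category.assoc]
    have : i ≫ (DCoh.restrictD U.ι).map
        ((Tm e).map (Triangle.invRotate (Triangle.mk ρ v w)).mor₁) = εU.inv := hi.symm
    rw [this, Iso.inv_hom_id]

end Model

end Groth.Agent.Lib.Helper2.Kos
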