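import Mathlib

/-!
# Abstract Koszul towers in a linear triangulated category (helper2)

For an `A`-linear pretriangulated category `C`, an object `P` and a list `l` of elements of `A`,
`IsKoszul P l K c` says that `c : P ⟶ K` is obtained from `P` by successively taking cones of
multiplication by the elements of `l`.  We prove: existence, transition maps, torsion dévissage,
the factorisation lemma (Stacks 08E3-style) and nilpotence of the elements of `l` on `K`.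
-/

set_option autoImplicit false
universe u v w
open CategoryTheory CategoryTheory.Limits CategoryTheory.Pretriangulated

namespace Groth.Agent.Lib.Helper2.Kos

variable {A : Type u} [CommRing A] {C : Type v} [Category.{w} C] [Preadditive C] [HasZeroObject C]
  [HasShift C ℤ] [∀ n : ℤ, (shiftFunctor C n).Additive] [Pretriangulated C] [Linear A C]
  [∀ n : ℤ, (shiftFunctor C n).Linear A]

/-- `c : P ⟶ K` is an iterated cone of multiplications by the elements of the list. -/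
def IsKoszul (P : C) : List A → (K : C) → (P ⟶ K) → Prop
  | [], _, c => IsIso c
  | f :: l, K', c' => ∃ (K : C) (c : P ⟶ K) (ι : K ⟶ K') (π : K' ⟶ K⟦(1 : ℤ)⟧),
      IsKoszul P l K c ∧ Triangle.mk (f • 𝟙 K) ι π ∈ distTriang C ∧ c' = c ≫ ι

theorem exists_isKoszul (P : C) (l : List A) : ∃ (K : C) (c : P ⟶ K), IsKoszul P l K c := by
  induction l with
  | nil => exact ⟨P, 𝟙 P, (inferInstance : IsIso (𝟙 P))⟩
  | cons f l ih =>
    obtain ⟨K, c, h⟩ := ih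
    obtain ⟨K', ι, π, hT⟩ := distinguished_cocone_triangle (f • 𝟙 K)
    exact ⟨K', c ≫ ι, K, c, ι, π, h, hT, rfl⟩

theorem IsKoszul.of_iso {P : C} {l : List A} {K K' : C} {c : P ⟶ K} (h : IsKoszul P l K c)
    (e : K ≅ K') : IsKoszul P l K' (c ≫ e.hom) := by
  cases l with
  | nil =>
    haveI : IsIso c := h
    exact (inferInstance : IsIso (c ≫ e.hom))
  | cons f l =>
    obtain ⟨K₀, c₀, ι, π, h₀, hT, rfl⟩ := h
    refine ⟨K₀, c₀, ι ≫ e.hom, e.inv ≫ π, h₀, ?_, by simp⟩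
    refine isomorphic_distinguished _ hT _ ?_
    exact Triangle.isoMk _ _ (Iso.refl _) (Iso.refl _) e.symm
      ((Category.comp_id _).trans (Category.id_comp _).symm)
      (by
        show (ι ≫ e.hom) ≫ e.inv = 𝟙 K₀ ≫ ι
        rw [Category.assoc, e.hom_inv_id, Category.comp_id, Category.id_comp])
      (by
        show (e.inv ≫ π) ≫ (shiftFunctor C (1 : ℤ)).map (𝟙 K₀) = e.inv ≫ π
        rw [CategoryTheory.Functor.map_id, Category.comp_id])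

theorem exists_transition {P : C} {l₁ l₂ : List A}
    (h : List.Forall₂ (fun x y : A => ∃ b : A, x = b * y) l₁ l₂) :
    ∀ {K₁ K₂ : C} {c₁ : P ⟶ K₁} {c₂ : P ⟶ K₂}, IsKoszul P l₁ K₁ c₁ → IsKoszul P l₂ K₂ c₂ →
      ∃ T : K₁ ⟶ K₂, c₁ ≫ T = c₂ := by
  induction h with
  | nil =>
    intro K₁ K₂ c₁ c₂ h₁ h₂
    haveI : IsIso c₁ := h₁
    exact ⟨inv c₁ ≫ c₂, by simp⟩
  | @cons x y l₁' l₂' hxy _ ih =>
    rintro K₁' K₂' c₁' c₂' ⟨K₁, c₁, ι₁, π₁, h₁, hT₁, rfl⟩ ⟨K₂, c₂, ι₂, π₂, h₂, hT₂, rfl⟩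
    obtain ⟨b, rfl⟩ := hxy
    obtain ⟨T, hT⟩ := ih h₁ h₂
    obtain ⟨T', hT''⟩ : ∃ T' : K₁' ⟶ K₂', ι₁ ≫ T' = T ≫ ι₂ := by
      obtain ⟨T', hT', -⟩ := complete_distinguished_triangle_morphism _ _ hT₁ hT₂ (b • T) T (by
        show ((b * y) • 𝟙 K₁) ≫ T = (b • T) ≫ (y • 𝟙 K₂)
        rw [Linear.smul_comp, Category.id_comp, Linear.smul_comp, Linear.comp_smul,
          Category.comp_id, smul_smul])
      exact ⟨T', hT'⟩
    refine ⟨T', ?_⟩
    rw [Category.assoc, hT'', ← Category.assoc, hT]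

/-- every morphism `X ⟶ N` is killed by a power of `f` -/
def Tors (f : A) (X N : C) : Prop := ∀ φ : X ⟶ N, ∃ n : ℕ, (f ^ n) • φ = 0

theorem Tors.of_iso_left {f : A} {X X' N : C} (e : X ≅ X') (h : Tors f X N) : Tors f X' N := by
  intro φ
  obtain ⟨n, hn⟩ := h (e.hom ≫ φ)
  refine ⟨n, ?_⟩
  rw [← cancel_epi e.hom, Linear.comp_smul, hn, comp_zero]

theorem Tors.of_iso_right {f : A} {X N N' : C} (e : N ≅ N') (h : Tors f X N) : Tors f X N' := by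
  intro φ
  obtain ⟨n, hn⟩ := h (φ ≫ e.inv)
  refine ⟨n, ?_⟩
  rw [← cancel_mono e.inv, Linear.smul_comp, hn, zero_comp]

theorem tors_of_isZero {f : A} {X N : C} (h : IsZero X) : Tors f X N := fun φ =>
  ⟨0, by rw [h.eq_of_src φ 0, smul_zero]⟩

/-- two-out-of-three for torsion (middle term) -/
theorem Tors.of_triangle {f : A} {N : C} (T : Triangle C) (hT : T ∈ distTriang C)
    (h₁ : Tors f T.obj₁ N) (h₃ : Tors f T.obj₃ N) : Tors f T.obj₂ N := by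
  intro φ
  obtain ⟨a, ha⟩ := h₁ (T.mor₁ ≫ φ)
  have h0 : T.mor₁ ≫ ((f ^ a) • φ) = 0 := by rw [Linear.comp_smul, ha]
  obtain ⟨ψ, hψ⟩ := Triangle.yoneda_exact₂ T hT ((f ^ a) • φ) h0
  obtain ⟨b, hb⟩ := h₃ ψ
  refine ⟨b + a, ?_⟩
  rw [pow_add, mul_smul, hψ, ← Linear.comp_smul, hb, comp_zero]

theorem Tors.shift {f : A} {X N : C} (h : Tors f X (N⟦(-1 : ℤ)⟧)) : Tors f (X⟦(1 : ℤ)⟧) N := by
  intro φ
  let e : (N⟦(-1 : ℤ)⟧)⟦(1 : ℤ)⟧ ≅ N := (shiftEquiv C (1 : ℤ)).counitIso.app N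
  obtain ⟨χ, hχ⟩ := (shiftFunctor C (1 : ℤ)).map_surjective (φ ≫ e.inv)
  obtain ⟨n, hn⟩ := h χ
  refine ⟨n, ?_⟩
  have h1 : (f ^ n) • (φ ≫ e.inv) = 0 := by
    rw [← hχ, ← Functor.map_smul, hn, Functor.map_zero]
  rw [← cancel_mono e.inv, Linear.smul_comp, h1, zero_comp]

/-- third vertex of a triangle -/
theorem Tors.of_triangle₃ {f : A} {N : C} (T : Triangle C) (hT : T ∈ distTriang C)
    (h₂ : Tors f T.obj₂ N) (h₁ : Tors f T.obj₁ (N⟦(-1 : ℤ)⟧)) : Tors f T.obj₃ N :=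
  Tors.of_triangle T.rotate (rot_of_distTriang _ hT) h₂ h₁.shift

theorem tors_of_isKoszul (f : A) {P : C} {l : List A} :
    ∀ {K : C} {c : P ⟶ K} (_ : IsKoszul P l K c) (N : C)
      (_ : ∀ j : ℕ, j ≤ l.length → Tors f P (N⟦-(j : ℤ)⟧)), Tors f K N := by
  induction l with
  | nil =>
    intro K c h N hN
    haveI : IsIso c := h
    have h0 := hN 0 le_rfl
    exact ((h0.of_iso_right ((shiftFunctorZero C ℤ).app N))).of_iso_left (asIso c)
  | cons g l ih =>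
    rintro K' c' ⟨K, c, ι, π, h, hT, rfl⟩ N hN
    refine Tors.of_triangle₃ _ hT ?_ ?_
    · exact ih h N (fun j hj => hN j (by simp; omega))
    · refine ih h (N⟦(-1 : ℤ)⟧) (fun j hj => ?_)
      have := hN (j + 1) (by simp; omega)
      refine this.of_iso_right ?_
      exact (shiftFunctorAdd' C (-1 : ℤ) (-(j : ℤ)) (-((j + 1 : ℕ) : ℤ)) (by push_cast; omega)).app N

theorem forall₂_pow (l : List A) {e E : ℕ} (h : e ≤ E) :
    List.Forall₂ (fun x y : A => ∃ b : A, x = b * y) (l.map (· ^ E)) (l.map (· ^ e)) := by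
  induction l with
  | nil => exact List.Forall₂.nil
  | cons a l ih =>
    refine List.Forall₂.cons ⟨a ^ (E - e), ?_⟩ ih
    show a ^ E = a ^ (E - e) * a ^ e
    rw [← pow_add, Nat.sub_add_cancel h]

/-- the factorisation lemma -/
theorem exists_factor {P N : C} (l : List A)
    (hN : ∀ f ∈ l, ∀ j : ℕ, j < l.length → Tors f P (N⟦-(j : ℤ)⟧)) (δ : P ⟶ N) :
    ∃ e₀ : ℕ, ∀ e : ℕ, e₀ ≤ e → ∀ (K : C) (c : P ⟶ K), IsKoszul P (l.map (· ^ e)) K c →
      ∃ ψ : K ⟶ N, c ≫ ψ = δ := by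
  induction l with
  | nil =>
    refine ⟨0, fun e _ K c h => ?_⟩
    haveI : IsIso c := h
    exact ⟨inv c ≫ δ, by simp⟩
  | cons f l ih =>
    obtain ⟨e₁, he₁⟩ := ih (fun g hg j hj =>
      hN g (List.mem_cons_of_mem _ hg) j (by simp; omega))
    obtain ⟨K₁, c₁, hK₁⟩ := exists_isKoszul (A := A) P (l.map (· ^ e₁))
    obtain ⟨ψ₁, hψ₁⟩ := he₁ e₁ le_rfl K₁ c₁ hK₁
    have htors : Tors f K₁ N := tors_of_isKoszul f hK₁ N (fun j hj =>
      hN f (List.mem_cons_self) j (by simp at hj ⊢; omega))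
    obtain ⟨e₂, he₂⟩ := htors ψ₁
    refine ⟨max e₁ e₂, fun e he K' c' hK' => ?_⟩
    obtain ⟨K, c, ι, π, hK, hT, rfl⟩ := hK'
    obtain ⟨T, hT'⟩ := exists_transition (forall₂_pow l (le_trans (le_max_left _ _) he)) hK hK₁
    have h0 : (f ^ e • 𝟙 K) ≫ (T ≫ ψ₁) = 0 := by
      rw [Linear.smul_comp, Category.id_comp, ← Linear.comp_smul]
      have : f ^ e • ψ₁ = 0 := by
        obtain ⟨d, rfl⟩ : ∃ d, e = d + e₂ :=
          ⟨e - e₂, by have := le_trans (le_max_right e₁ e₂) he; omega⟩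
        rw [pow_add, mul_smul, he₂, smul_zero]
      rw [this, comp_zero]
    obtain ⟨ψ', hψ'⟩ : ∃ ψ' : K' ⟶ N, T ≫ ψ₁ = ι ≫ ψ' :=
      Triangle.yoneda_exact₂ _ hT (T ≫ ψ₁) h0
    refine ⟨ψ', ?_⟩
    rw [Category.assoc, ← hψ', ← Category.assoc, hT', hψ₁]

/-- a scalar acting by zero on the first two morphisms of a triangle `K → K → K'` squares to zero
on `K'` -/
theorem sq_smul_id_eq_zero {K K' : C} {u : K ⟶ K} {ι : K ⟶ K'} {π : K' ⟶ K⟦(1 : ℤ)⟧}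
    (hT : Triangle.mk u ι π ∈ distTriang C) (z : A) (h₁ : z • ι = 0) (h₂ : z • π = 0) :
    (z * z) • 𝟙 K' = 0 := by
  have h0 : (z • 𝟙 K') ≫ π = 0 := by rw [Linear.smul_comp, Category.id_comp, h₂]
  obtain ⟨y, hy⟩ : ∃ y : K' ⟶ K, z • 𝟙 K' = y ≫ ι :=
    Triangle.coyoneda_exact₃ _ hT (z • 𝟙 K') h0
  rw [mul_smul, hy, ← Linear.comp_smul, h₁, comp_zero]

theorem exists_pow_smul_id_eq_zero {P : C} {l : List A} :
    ∀ {K : C} {c : P ⟶ K} (_ : IsKoszul P l K c), ∀ f ∈ l, ∃ n : ℕ, (f ^ n) • 𝟙 K = 0 := by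
  induction l with
  | nil => intro K c _ f hf; simp at hf
  | cons g l ih =>
    rintro K' c' ⟨K, c, ι, π, h, hT, rfl⟩ f hf
    have key : ∀ z : A, (z • 𝟙 K) ≫ ι = 0 → z • π = 0 → (z * z) • 𝟙 K' = 0 := by
      intro z h₁ h₂
      exact sq_smul_id_eq_zero hT z (by rw [← h₁, Linear.smul_comp, Category.id_comp]) h₂
    have hπ : ∀ z : A, π ≫ (z • 𝟙 K)⟦(1 : ℤ)⟧' = z • π := by
      intro z
      rw [Functor.map_smul, CategoryTheory.Functor.map_id, Linear.comp_smul, Category.comp_id]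
    rcases List.mem_cons.1 hf with rfl | hf'
    · refine ⟨2, ?_⟩
      rw [pow_two]
      refine key f (comp_distTriang_mor_zero₁₂ _ hT) ?_
      rw [← hπ]
      exact comp_distTriang_mor_zero₃₁ _ hT
    · obtain ⟨n, hn⟩ := ih h f hf'
      refine ⟨n + n, ?_⟩
      rw [pow_add]
      refine key (f ^ n) (by rw [hn, zero_comp]) ?_
      rw [← hπ, hn, Functor.map_zero, comp_zero]

/-- if multiplication by `g` is injective on `Hom(K, N)` (because `Hom(K', N) = 0` for the cone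
`K'`) and `Hom(K, N)` is `g`-power torsion then it vanishes -/
theorem hom_eq_zero_of_cone {K K' N : C} {g : A} {ι : K ⟶ K'} {π : K' ⟶ K⟦(1 : ℤ)⟧}
    (hT : Triangle.mk (g • 𝟙 K) ι π ∈ distTriang C) (h0 : ∀ ψ : K' ⟶ N, ψ = 0)
    (ht : Tors g K N) (φ : K ⟶ N) : φ = 0 := by
  obtain ⟨k, hk⟩ := ht φ
  induction k with
  | zero => rwa [pow_zero, one_smul] at hk
  | succ k ih =>
    apply ih
    have h1 : (g • 𝟙 K) ≫ (g ^ k • φ) = 0 := by
      rw [Linear.smul_comp, Category.id_comp, smul_smul, ← pow_succ', hk]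
    obtain ⟨ψ', hψ'⟩ : ∃ ψ' : K' ⟶ N, g ^ k • φ = ι ≫ ψ' :=
      Triangle.yoneda_exact₂ _ hT (g ^ k • φ) h1
    rw [hψ', h0 ψ', comp_zero]

/-- orthogonality to a Koszul tower descends to the base object, for torsion targets -/
theorem hom_eq_zero_of_isKoszul {P N : C} {l : List A}
    (hN : ∀ f ∈ l, ∀ j : ℤ, Tors f P (N⟦j⟧)) :
    ∀ {K : C} {c : P ⟶ K} (_ : IsKoszul P l K c) (_ : ∀ (n : ℤ) (φ : K ⟶ N⟦n⟧), φ = 0)
      (n : ℤ) (φ : P ⟶ N⟦n⟧), φ = 0 := by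
  induction l with
  | nil =>
    intro K c h h0 n φ
    haveI : IsIso c := h
    have := h0 n (inv c ≫ φ)
    rw [← cancel_epi (inv c), this, comp_zero]
  | cons g l ih =>
    rintro K' c' ⟨K, c, ι, π, h, hT, rfl⟩ h0 n φ
    refine ih (fun f hf j => hN f (List.mem_cons_of_mem _ hf) j) h (fun m ψ => ?_) n φ
    refine hom_eq_zero_of_cone hT (h0 m) ?_ ψ
    refine tors_of_isKoszul g h (N⟦m⟧) (fun j _ => ?_)
    exact (hN g List.mem_cons_self (m + -(j : ℤ))).of_iso_right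
      ((shiftFunctorAdd' C m (-(j : ℤ)) (m + -(j : ℤ)) rfl).app N)

/-- ranged version of `hom_eq_zero_of_isKoszul` -/
theorem hom_eq_zero_of_isKoszul' {P N : C} {l : List A} (S : Set ℤ)
    (hN : ∀ f ∈ l, ∀ j : ℤ, Tors f P (N⟦j⟧)) :
    ∀ {K : C} {c : P ⟶ K} (_ : IsKoszul P l K c) (_ : ∀ n ∈ S, ∀ φ : K ⟶ N⟦n⟧, φ = 0),
      ∀ n ∈ S, ∀ φ : P ⟶ N⟦n⟧, φ = 0 := by
  induction l with
  | nil =>
    intro K c h h0 n hn φ
    haveI : IsIso c := h
    have := h0 n hn (inv c ≫ φ)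
    rw [← cancel_epi (inv c), this, comp_zero]
  | cons g l ih =>
    rintro K' c' ⟨K, c, ι, π, h, hT, rfl⟩ h0 n hn φ
    refine ih (fun f hf j => hN f (List.mem_cons_of_mem _ hf) j) h (fun m hm ψ => ?_) n hn φ
    refine hom_eq_zero_of_cone hT (h0 m hm) ?_ ψ
    refine tors_of_isKoszul g h (N⟦m⟧) (fun j _ => ?_)
    exact (hN g List.mem_cons_self (m + -(j : ℤ))).of_iso_right
      ((shiftFunctorAdd' C m (-(j : ℤ)) (m + -(j : ℤ)) rfl).app N)

theorem hom_shift_one_eq_zero {X N : C} (h : ∀ ψ : X ⟶ N⟦(-1 : ℤ)⟧, ψ = 0)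
    (φ : X⟦(1 : ℤ)⟧ ⟶ N) : φ = 0 := by
  let e : (N⟦(-1 : ℤ)⟧)⟦(1 : ℤ)⟧ ≅ N := (shiftEquiv C (1 : ℤ)).counitIso.app N
  obtain ⟨χ, hχ⟩ := (shiftFunctor C (1 : ℤ)).map_surjective (φ ≫ e.inv)
  rw [h χ, Functor.map_zero] at hχ
  rw [← cancel_mono e.inv, ← hχ, zero_comp]

/-- vanishing dévissage along a Koszul tower -/
theorem hom_eq_zero_dev {P : C} {l : List A} :
    ∀ {K : C} {c : P ⟶ K} (_ : IsKoszul P l K c) (N : C)
      (_ : ∀ j : ℕ, j ≤ l.length → ∀ φ : P ⟶ N⟦-(j : ℤ)⟧, φ = 0) (φ : K ⟶ N), φ = 0 := by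
  induction l with
  | nil =>
    intro K c h N hN φ
    haveI : IsIso c := h
    have h0 := hN 0 le_rfl (c ≫ φ ≫ (shiftFunctorZero C ℤ).inv.app N)
    rw [← cancel_epi c, ← cancel_mono ((shiftFunctorZero C ℤ).inv.app N), Category.assoc, h0,
      comp_zero, zero_comp]
  | cons g l ih =>
    rintro K' c' ⟨K, c, ι, π, h, hT, rfl⟩ N hN φ
    have h1 : ι ≫ φ = 0 := ih h N (fun j hj => hN j (by simp; omega)) _
    obtain ⟨ψ, hψ⟩ : ∃ ψ : K⟦(1 : ℤ)⟧ ⟶ N, φ = π ≫ ψ := Triangle.yoneda_exact₃ _ hT φ h1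
    have hψ0 : ψ = 0 := by
      apply hom_shift_one_eq_zero
      intro χ
      refine ih h (N⟦(-1 : ℤ)⟧) (fun j hj ξ => ?_) χ
      have := hN (j + 1) (by simp; omega)
        (ξ ≫ (shiftFunctorAdd' C (-1 : ℤ) (-(j : ℤ)) (-((j + 1 : ℕ) : ℤ))
          (by push_cast; omega)).inv.app N)
      rw [← cancel_mono ((shiftFunctorAdd' C (-1 : ℤ) (-(j : ℤ)) (-((j + 1 : ℕ) : ℤ))
          (by push_cast; omega)).inv.app N), this, zero_comp]
    rw [hψ, hψ0, comp_zero]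

end Groth.Agent.Lib.Helper2.Kos
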